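import Cfsg.Agent.Lib.Helper8.HeTab
import Cfsg.Agent.Lib.Helper8.HeData.D0
import Cfsg.Agent.Lib.Helper8.HeData.D1
import Cfsg.Agent.Lib.Helper8.HeData.D2
import Cfsg.Agent.Lib.Helper8.HeData.D3
import Cfsg.Agent.Lib.Helper8.HeData.D4
import Cfsg.Agent.Lib.Helper8.HeData.D5
import Cfsg.Agent.Lib.Helper8.HeData.D6
import Cfsg.Agent.Lib.Helper8.HeData.D7
import Cfsg.Agent.Lib.Helper8.HeData.D8
import Cfsg.Agent.Lib.Helper8.HeData.D9
import Cfsg.Agent.Lib.Helper8.HeData.D10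
import Cfsg.Agent.Lib.Helper8.HeData.D11

/- elements of He as straight-line products with their packed tables (helper8, generated) -/
set_option autoImplicit false
set_option maxRecDepth 8000

namespace Cfsg.Agent.Lib.Helper8.HeTab

open Cfsg.Spor.He (Gen)
open Cfsg.Agent.Lib.Helper28 Cfsg.Agent.Lib.Helper28.TC Cfsg.Agent.Lib.Helper28.He2058
open Cfsg.Agent.Lib.Helper56.HePerm

noncomputable def x10 : ↥Gh :=
  [(gen Gen.d), (gen Gen.e), (gen Gen.g), (gen Gen.a), (gen Gen.c), (gen Gen.a), (gen Gen.d), (gen Gen.g), (gen Gen.d), (gen Gen.f), (gen Gen.d), (gen Gen.g), (gen Gen.b), (gen Gen.d), (gen Gen.b), (gen Gen.g), (gen Gen.d), (gen Gen.f), (gen Gen.d), (gen Gen.g), (gen Gen.d), (gen Gen.a), (gen Gen.c), (gen Gen.a), (gen Gen.g), (gen Gen.e)].prod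
theorem tab_x10 : Tab x10 Tx10 :=
  Tab.of_tabW (tabW_prodW (.cons (tab_gen Gen.d).tabW (.cons (tab_gen Gen.e).tabW (.cons (tab_gen Gen.g).tabW (.cons (tab_gen Gen.a).tabW (.cons (tab_gen Gen.c).tabW (.cons (tab_gen Gen.a).tabW (.cons (tab_gen Gen.d).tabW (.cons (tab_gen Gen.g).tabW (.cons (tab_gen Gen.d).tabW (.cons (tab_gen Gen.f).tabW (.cons (tab_gen Gen.d).tabW (.cons (tab_gen Gen.g).tabW (.cons (tab_gen Gen.b).tabW (.cons (tab_gen Gen.d).tabW (.cons (tab_gen Gen.b).tabW (.cons (tab_gen Gen.g).tabW (.cons (tab_gen Gen.d).tabW (.cons (tab_gen Gen.f).tabW (.cons (tab_gen Gen.d).tabW (.cons (tab_gen Gen.g).tabW (.cons (tab_gen Gen.d).tabW (.cons (tab_gen Gen.a).tabW (.cons (tab_gen Gen.c).tabW (.cons (tab_gen Gen.a).tabW (.cons (tab_gen Gen.g).tabW (.cons (tab_gen Gen.e).tabW .nil))))))))))))))))))))))))))) (by decide +kernel)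
theorem tabi_x10 : Tab x10⁻¹ Ix10 := tab_x10.inv (by decide +kernel)

noncomputable def x12 : ↥Gh :=
  [(gen Gen.d), (gen Gen.b), (gen Gen.g), (gen Gen.d), (gen Gen.f), (gen Gen.d), (gen Gen.g), (gen Gen.d), (gen Gen.a), (gen Gen.c), (gen Gen.a), (gen Gen.g), (gen Gen.e), (gen Gen.d), (gen Gen.e), (gen Gen.g), (gen Gen.a), (gen Gen.c), (gen Gen.a), (gen Gen.d), (gen Gen.g), (gen Gen.d), (gen Gen.f), (gen Gen.d), (gen Gen.g), (gen Gen.b)].prod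
theorem tab_x12 : Tab x12 Tx12 :=
  Tab.of_tabW (tabW_prodW (.cons (tab_gen Gen.d).tabW (.cons (tab_gen Gen.b).tabW (.cons (tab_gen Gen.g).tabW (.cons (tab_gen Gen.d).tabW (.cons (tab_gen Gen.f).tabW (.cons (tab_gen Gen.d).tabW (.cons (tab_gen Gen.g).tabW (.cons (tab_gen Gen.d).tabW (.cons (tab_gen Gen.a).tabW (.cons (tab_gen Gen.c).tabW (.cons (tab_gen Gen.a).tabW (.cons (tab_gen Gen.g).tabW (.cons (tab_gen Gen.e).tabW (.cons (tab_gen Gen.d).tabW (.cons (tab_gen Gen.e).tabW (.cons (tab_gen Gen.g).tabW (.cons (tab_gen Gen.a).tabW (.cons (tab_gen Gen.c).tabW (.cons (tab_gen Gen.a).tabW (.cons (tab_gen Gen.d).tabW (.cons (tab_gen Gen.g).tabW (.cons (tab_gen Gen.d).tabW (.cons (tab_gen Gen.f).tabW (.cons (tab_gen Gen.d).tabW (.cons (tab_gen Gen.g).tabW (.cons (tab_gen Gen.b).tabW .nil))))))))))))))))))))))))))) (by decide +kernel)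
theorem tabi_x12 : Tab x12⁻¹ Ix12 := tab_x12.inv (by decide +kernel)

noncomputable def x16 : ↥Gh :=
  [(gen Gen.a), (gen Gen.g), (gen Gen.d), (gen Gen.e), (gen Gen.g), (gen Gen.a), (gen Gen.f), (gen Gen.d), (gen Gen.c), (gen Gen.f), (gen Gen.d), (gen Gen.f), (gen Gen.c), (gen Gen.d), (gen Gen.f), (gen Gen.a), (gen Gen.g), (gen Gen.e), (gen Gen.d), (gen Gen.g), (gen Gen.a), (gen Gen.d)].prod
theorem tab_x16 : Tab x16 Tx16 :=
  Tab.of_tabW (tabW_prodW (.cons (tab_gen Gen.a).tabW (.cons (tab_gen Gen.g).tabW (.cons (tab_gen Gen.d).tabW (.cons (tab_gen Gen.e).tabW (.cons (tab_gen Gen.g).tabW (.cons (tab_gen Gen.a).tabW (.cons (tab_gen Gen.f).tabW (.cons (tab_gen Gen.d).tabW (.cons (tab_gen Gen.c).tabW (.cons (tab_gen Gen.f).tabW (.cons (tab_gen Gen.d).tabW (.cons (tab_gen Gen.f).tabW (.cons (tab_gen Gen.c).tabW (.cons (tab_gen Gen.d).tabW (.cons (tab_gen Gen.f).tabW (.cons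 (tab_gen Gen.a).tabW (.cons (tab_gen Gen.g).tabW (.cons (tab_gen Gen.e).tabW (.cons (tab_gen Gen.d).tabW (.cons (tab_gen Gen.g).tabW (.cons (tab_gen Gen.a).tabW (.cons (tab_gen Gen.d).tabW .nil))))))))))))))))))))))) (by decide +kernel)

noncomputable def x21 : ↥Gh :=
  [(gen Gen.d), (gen Gen.b), (gen Gen.e), (gen Gen.a), (gen Gen.c), (gen Gen.a), (gen Gen.f), (gen Gen.e), (gen Gen.a), (gen Gen.d), (gen Gen.f), (gen Gen.b), (gen Gen.d), (gen Gen.f), (gen Gen.a), (gen Gen.e), (gen Gen.b), (gen Gen.g), (gen Gen.d), (gen Gen.e), (gen Gen.b), (gen Gen.c), (gen Gen.b), (gen Gen.d), (gen Gen.b), (gen Gen.c), (gen Gen.b), (gen Gen.e), (gen Gen.d), (gen Gen.g), (gen Gen.b), (gen Gen.e), (gen Gen.a), (gen Gen.f), (gen Gen.d), (gen Gen.b), (gen Gen.f), (gen Gen.d), (gen Gen.a), (gen Gen.e), (gen Gen.f), (gen Gen.a), (gen Gen.c), (gen Gen.a), (gen Gen.e), (gen Gen.b)].prod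
theorem tab_x21 : Tab x21 Tx21 :=
  Tab.of_tabW (tabW_prodW (.cons (tab_gen Gen.d).tabW (.cons (tab_gen Gen.b).tabW (.cons (tab_gen Gen.e).tabW (.cons (tab_gen Gen.a).tabW (.cons (tab_gen Gen.c).tabW (.cons (tab_gen Gen.a).tabW (.cons (tab_gen Gen.f).tabW (.cons (tab_gen Gen.e).tabW (.cons (tab_gen Gen.a).tabW (.cons (tab_gen Gen.d).tabW (.cons (tab_gen Gen.f).tabW (.cons (tab_gen Gen.b).tabW (.cons (tab_gen Gen.d).tabW (.cons (tab_gen Gen.f).tabW (.cons (tab_gen Gen.a).tabW (.cons (tab_gen Gen.e).tabW (.cons (tab_gen Gen.b).tabW (.cons (tab_gen Gen.g).tabW (.cons (tab_gen Gen.d).tabW (.cons (tab_gen Gen.e).tabW (.cons (tab_gen Gen.b).tabW (.cons (tab_gen Gen.c).tabW (.cons (tab_gen Gen.b).tabW (.cons (tab_gen Gen.d).tabW (.cons (tab_gen Gen.b).tabW (.cons (tab_gen Gen.c).tabW (.cons (tab_gen Gen.b).tabW (.cons (tab_gen Gen.e).tabW (.cons (tab_gen Gen.d).tabW (.cons (tab_gen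 Gen.g).tabW (.cons (tab_gen Gen.b).tabW (.cons (tab_gen Gen.e).tabW (.cons (tab_gen Gen.a).tabW (.cons (tab_gen Gen.f).tabW (.cons (tab_gen Gen.d).tabW (.cons (tab_gen Gen.b).tabW (.cons (tab_gen Gen.f).tabW (.cons (tab_gen Gen.d).tabW (.cons (tab_gen Gen.a).tabW (.cons (tab_gen Gen.e).tabW (.cons (tab_gen Gen.f).tabW (.cons (tab_gen Gen.a).tabW (.cons (tab_gen Gen.c).tabW (.cons (tab_gen Gen.a).tabW (.cons (tab_gen Gen.e).tabW (.cons (tab_gen Gen.b).tabW .nil))))))))))))))))))))))))))))))))))))))))))))))) (by decide +kernel)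

noncomputable def x26 : ↥Gh :=
  [(gen Gen.d), (gen Gen.b), (gen Gen.g), (gen Gen.d), (gen Gen.c), (gen Gen.a), (gen Gen.d), (gen Gen.g), (gen Gen.e), (gen Gen.f), (gen Gen.a), (gen Gen.b), (gen Gen.f), (gen Gen.g), (gen Gen.c), (gen Gen.a), (gen Gen.f), (gen Gen.c), (gen Gen.f), (gen Gen.e), (gen Gen.d), (gen Gen.e), (gen Gen.f), (gen Gen.c), (gen Gen.f), (gen Gen.a), (gen Gen.c), (gen Gen.g), (gen Gen.f), (gen Gen.b), (gen Gen.a), (gen Gen.f), (gen Gen.e), (gen Gen.g), (gen Gen.d), (gen Gen.a), (gen Gen.c), (gen Gen.d), (gen Gen.g), (gen Gen.b)].prod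
theorem tab_x26 : Tab x26 Tx26 :=
  Tab.of_tabW (tabW_prodW (.cons (tab_gen Gen.d).tabW (.cons (tab_gen Gen.b).tabW (.cons (tab_gen Gen.g).tabW (.cons (tab_gen Gen.d).tabW (.cons (tab_gen Gen.c).tabW (.cons (tab_gen Gen.a).tabW (.cons (tab_gen Gen.d).tabW (.cons (tab_gen Gen.g).tabW (.cons (tab_gen Gen.e).tabW (.cons (tab_gen Gen.f).tabW (.cons (tab_gen Gen.a).tabW (.cons (tab_gen Gen.b).tabW (.cons (tab_gen Gen.f).tabW (.cons (tab_gen Gen.g).tabW (.cons (tab_gen Gen.c).tabW (.cons (tab_gen Gen.a).tabW (.cons (tab_gen Gen.f).tabW (.cons (tab_gen Gen.c).tabW (.cons (tab_gen Gen.f).tabW (.cons (tab_gen Gen.e).tabW (.cons (tab_gen Gen.d).tabW (.cons (tab_gen Gen.e).tabW (.cons (tab_gen Gen.f).tabW (.cons (tab_gen Gen.c).tabW (.cons (tab_gen Gen.f).tabW (.cons (tab_gen Gen.a).tabW (.cons (tab_gen Gen.c).tabW (.cons (tab_gen Gen.g).tabW (.cons (tab_gen Gen.f).tabW (.cons (tab_gen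 Gen.b).tabW (.cons (tab_gen Gen.a).tabW (.cons (tab_gen Gen.f).tabW (.cons (tab_gen Gen.e).tabW (.cons (tab_gen Gen.g).tabW (.cons (tab_gen Gen.d).tabW (.cons (tab_gen Gen.a).tabW (.cons (tab_gen Gen.c).tabW (.cons (tab_gen Gen.d).tabW (.cons (tab_gen Gen.g).tabW (.cons (tab_gen Gen.b).tabW .nil))))))))))))))))))))))))))))))))))))))))) (by decide +kernel)

noncomputable def x31 : ↥Gh :=
  [(gen Gen.d), (gen Gen.g), (gen Gen.f), (gen Gen.b), (gen Gen.c), (gen Gen.e), (gen Gen.d), (gen Gen.g), (gen Gen.e), (gen Gen.d), (gen Gen.e), (gen Gen.g), (gen Gen.a), (gen Gen.d), (gen Gen.b), (gen Gen.f), (gen Gen.g), (gen Gen.d), (gen Gen.f), (gen Gen.d), (gen Gen.f), (gen Gen.d), (gen Gen.g), (gen Gen.f), (gen Gen.b), (gen Gen.d), (gen Gen.a), (gen Gen.g), (gen Gen.e), (gen Gen.d), (gen Gen.e), (gen Gen.g), (gen Gen.d), (gen Gen.e), (gen Gen.c), (gen Gen.b), (gen Gen.f), (gen Gen.g)].prod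
theorem tab_x31 : Tab x31 Tx31 :=
  Tab.of_tabW (tabW_prodW (.cons (tab_gen Gen.d).tabW (.cons (tab_gen Gen.g).tabW (.cons (tab_gen Gen.f).tabW (.cons (tab_gen Gen.b).tabW (.cons (tab_gen Gen.c).tabW (.cons (tab_gen Gen.e).tabW (.cons (tab_gen Gen.d).tabW (.cons (tab_gen Gen.g).tabW (.cons (tab_gen Gen.e).tabW (.cons (tab_gen Gen.d).tabW (.cons (tab_gen Gen.e).tabW (.cons (tab_gen Gen.g).tabW (.cons (tab_gen Gen.a).tabW (.cons (tab_gen Gen.d).tabW (.cons (tab_gen Gen.b).tabW (.cons (tab_gen Gen.f).tabW (.cons (tab_gen Gen.g).tabW (.cons (tab_gen Gen.d).tabW (.cons (tab_gen Gen.f).tabW (.cons (tab_gen Gen.d).tabW (.cons (tab_gen Gen.f).tabW (.cons (tab_gen Gen.d).tabW (.cons (tab_gen Gen.g).tabW (.cons (tab_gen Gen.f).tabW (.cons (tab_gen Gen.b).tabW (.cons (tab_gen Gen.d).tabW (.cons (tab_gen Gen.a).tabW (.cons (tab_gen Gen.g).tabW (.cons (tab_gen Gen.e).tabW (.cons (tab_gen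 Gen.d).tabW (.cons (tab_gen Gen.e).tabW (.cons (tab_gen Gen.g).tabW (.cons (tab_gen Gen.d).tabW (.cons (tab_gen Gen.e).tabW (.cons (tab_gen Gen.c).tabW (.cons (tab_gen Gen.b).tabW (.cons (tab_gen Gen.f).tabW (.cons (tab_gen Gen.g).tabW .nil))))))))))))))))))))))))))))))))))))))) (by decide +kernel)

noncomputable def x36 : ↥Gh :=
  [(gen Gen.d), (gen Gen.c), (gen Gen.e), (gen Gen.f), (gen Gen.g), (gen Gen.f), (gen Gen.c), (gen Gen.a), (gen Gen.d), (gen Gen.f), (gen Gen.e), (gen Gen.a), (gen Gen.g), (gen Gen.d), (gen Gen.g), (gen Gen.a), (gen Gen.e), (gen Gen.f), (gen Gen.d), (gen Gen.a), (gen Gen.c), (gen Gen.f), (gen Gen.g), (gen Gen.f), (gen Gen.e), (gen Gen.c)].prod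
theorem tab_x36 : Tab x36 Tx36 :=
  Tab.of_tabW (tabW_prodW (.cons (tab_gen Gen.d).tabW (.cons (tab_gen Gen.c).tabW (.cons (tab_gen Gen.e).tabW (.cons (tab_gen Gen.f).tabW (.cons (tab_gen Gen.g).tabW (.cons (tab_gen Gen.f).tabW (.cons (tab_gen Gen.c).tabW (.cons (tab_gen Gen.a).tabW (.cons (tab_gen Gen.d).tabW (.cons (tab_gen Gen.f).tabW (.cons (tab_gen Gen.e).tabW (.cons (tab_gen Gen.a).tabW (.cons (tab_gen Gen.g).tabW (.cons (tab_gen Gen.d).tabW (.cons (tab_gen Gen.g).tabW (.cons (tab_gen Gen.a).tabW (.cons (tab_gen Gen.e).tabW (.cons (tab_gen Gen.f).tabW (.cons (tab_gen Gen.d).tabW (.cons (tab_gen Gen.a).tabW (.cons (tab_gen Gen.c).tabW (.cons (tab_gen Gen.f).tabW (.cons (tab_gen Gen.g).tabW (.cons (tab_gen Gen.f).tabW (.cons (tab_gen Gen.e).tabW (.cons (tab_gen Gen.c).tabW .nil))))))))))))))))))))))))))) (by decide +kernel)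

noncomputable def x38 : ↥Gh :=
  [(gen Gen.d), (gen Gen.g), (gen Gen.a), (gen Gen.e), (gen Gen.f), (gen Gen.d), (gen Gen.a), (gen Gen.c), (gen Gen.f), (gen Gen.g), (gen Gen.f), (gen Gen.e), (gen Gen.c), (gen Gen.d), (gen Gen.c), (gen Gen.e), (gen Gen.f), (gen Gen.g), (gen Gen.f), (gen Gen.c), (gen Gen.a), (gen Gen.d), (gen Gen.f), (gen Gen.e), (gen Gen.a), (gen Gen.g)].prod
theorem tab_x38 : Tab x38 Tx38 :=
  Tab.of_tabW (tabW_prodW (.cons (tab_gen Gen.d).tabW (.cons (tab_gen Gen.g).tabW (.cons (tab_gen Gen.a).tabW (.cons (tab_gen Gen.e).tabW (.cons (tab_gen Gen.f).tabW (.cons (tab_gen Gen.d).tabW (.cons (tab_gen Gen.a).tabW (.cons (tab_gen Gen.c).tabW (.cons (tab_gen Gen.f).tabW (.cons (tab_gen Gen.g).tabW (.cons (tab_gen Gen.f).tabW (.cons (tab_gen Gen.e).tabW (.cons (tab_gen Gen.c).tabW (.cons (tab_gen Gen.d).tabW (.cons (tab_gen Gen.c).tabW (.cons (tab_gen Gen.e).tabW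 (.cons (tab_gen Gen.f).tabW (.cons (tab_gen Gen.g).tabW (.cons (tab_gen Gen.f).tabW (.cons (tab_gen Gen.c).tabW (.cons (tab_gen Gen.a).tabW (.cons (tab_gen Gen.d).tabW (.cons (tab_gen Gen.f).tabW (.cons (tab_gen Gen.e).tabW (.cons (tab_gen Gen.a).tabW (.cons (tab_gen Gen.g).tabW .nil))))))))))))))))))))))))))) (by decide +kernel)

noncomputable def n2 : ↥Gh :=
  [x38 ^ 2].prod
theorem tab_n2 : Tab n2 Tn2 :=
  Tab.of_tabW (tabW_prodW (.cons (tab_x38.tabW.pow 2) .nil)) (by decide +kernel)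

noncomputable def x41 : ↥Gh :=
  [x10 ^ 2, x16 ^ 3, (gen Gen.d), (gen Gen.a), (gen Gen.g), (gen Gen.d), (gen Gen.e), (gen Gen.g), (gen Gen.a), (gen Gen.f), (gen Gen.d), (gen Gen.c), (gen Gen.f), x21 ^ 3, n2, x21 ^ 3, x26 ^ 2, (gen Gen.b), (gen Gen.g), (gen Gen.d), (gen Gen.c), (gen Gen.a), (gen Gen.d), (gen Gen.g), (gen Gen.e), (gen Gen.f), (gen Gen.a), (gen Gen.b), (gen Gen.f), (gen Gen.g), (gen Gen.c), (gen Gen.a), (gen Gen.f), (gen Gen.c), (gen Gen.f), (gen Gen.e), x21 ^ 3, x31 ^ 3, (gen Gen.g), (gen Gen.f), (gen Gen.b), (gen Gen.c), (gen Gen.e), (gen Gen.d), (gen Gen.g), (gen Gen.e), (gen Gen.d), (gen Gen.e), (gen Gen.g), (gen Gen.a), (gen Gen.d), (gen Gen.b), (gen Gen.f), (gen Gen.g), (gen Gen.d), (gen Gen.f), n2, x31 ^ 3, (gen Gen.g), (gen Gen.f), (gen Gen.b), (gen Gen.c), (gen Gen.e), (gen Gen.d), (gen Gen.g), (gen Gen.e), (gen Gen.d), (gen Gen.e), (gen Gen.g),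 (gen Gen.a), (gen Gen.d), (gen Gen.b), (gen Gen.f), (gen Gen.g), (gen Gen.d), (gen Gen.f), x16 ^ 3, (gen Gen.d), (gen Gen.a), (gen Gen.g), (gen Gen.d), (gen Gen.e), (gen Gen.g), (gen Gen.a), (gen Gen.f), (gen Gen.d), (gen Gen.c), (gen Gen.f), x36 ^ 2, x21 ^ 3].prod
theorem tab_x41 : Tab x41 Tx41 :=
  Tab.of_tabW (tabW_prodW (.cons (tab_x10.tabW.pow 2) (.cons (tab_x16.tabW.pow 3) (.cons (tab_gen Gen.d).tabW (.cons (tab_gen Gen.a).tabW (.cons (tab_gen Gen.g).tabW (.cons (tab_gen Gen.d).tabW (.cons (tab_gen Gen.e).tabW (.cons (tab_gen Gen.g).tabW (.cons (tab_gen Gen.a).tabW (.cons (tab_gen Gen.f).tabW (.cons (tab_gen Gen.d).tabW (.cons (tab_gen Gen.c).tabW (.cons (tab_gen Gen.f).tabW (.cons (tab_x21.tabW.pow 3) (.cons tab_n2.tabW (.cons (tab_x21.tabW.pow 3) (.cons (tab_x26.tabW.pow 2) (.cons (tab_gen Gen.b).tabW (.cons (tab_gen Gen.g).tabW (.cons (tab_gen Gen.d).tabW (.cons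 (tab_gen Gen.c).tabW (.cons (tab_gen Gen.a).tabW (.cons (tab_gen Gen.d).tabW (.cons (tab_gen Gen.g).tabW (.cons (tab_gen Gen.e).tabW (.cons (tab_gen Gen.f).tabW (.cons (tab_gen Gen.a).tabW (.cons (tab_gen Gen.b).tabW (.cons (tab_gen Gen.f).tabW (.cons (tab_gen Gen.g).tabW (.cons (tab_gen Gen.c).tabW (.cons (tab_gen Gen.a).tabW (.cons (tab_gen Gen.f).tabW (.cons (tab_gen Gen.c).tabW (.cons (tab_gen Gen.f).tabW (.cons (tab_gen Gen.e).tabW (.cons (tab_x21.tabW.pow 3) (.cons (tab_x31.tabW.pow 3) (.cons (tab_gen Gen.g).tabW (.cons (tab_gen Gen.f).tabW (.cons (tab_gen Gen.b).tabW (.cons (tab_gen Gen.c).tabW (.cons (tab_gen Gen.e).tabW (.cons (tab_gen Gen.d).tabW (.cons (tab_gen Gen.g).tabW (.cons (tab_gen Gen.e).tabW (.cons (tab_gen Gen.d).tabW (.cons (tab_gen Gen.e).tabW (.cons (tab_gen Gen.g).tabW (.cons (tab_gen Gen.a).tabW (.cons (tab_gen Gen.d).tabW (.cons (tab_gen Gen.b).tabW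 (.cons (tab_gen Gen.f).tabW (.cons (tab_gen Gen.g).tabW (.cons (tab_gen Gen.d).tabW (.cons (tab_gen Gen.f).tabW (.cons tab_n2.tabW (.cons (tab_x31.tabW.pow 3) (.cons (tab_gen Gen.g).tabW (.cons (tab_gen Gen.f).tabW (.cons (tab_gen Gen.b).tabW (.cons (tab_gen Gen.c).tabW (.cons (tab_gen Gen.e).tabW (.cons (tab_gen Gen.d).tabW (.cons (tab_gen Gen.g).tabW (.cons (tab_gen Gen.e).tabW (.cons (tab_gen Gen.d).tabW (.cons (tab_gen Gen.e).tabW (.cons (tab_gen Gen.g).tabW (.cons (tab_gen Gen.a).tabW (.cons (tab_gen Gen.d).tabW (.cons (tab_gen Gen.b).tabW (.cons (tab_gen Gen.f).tabW (.cons (tab_gen Gen.g).tabW (.cons (tab_gen Gen.d).tabW (.cons (tab_gen Gen.f).tabW (.cons (tab_x16.tabW.pow 3) (.cons (tab_gen Gen.d).tabW (.cons (tab_gen Gen.a).tabW (.cons (tab_gen Gen.g).tabW (.cons (tab_gen Gen.d).tabW (.cons (tab_gen Gen.e).tabW (.cons (tab_gen Gen.g).tabW (.cons (tab_gen Gen.a).tabW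 (.cons (tab_gen Gen.f).tabW (.cons (tab_gen Gen.d).tabW (.cons (tab_gen Gen.c).tabW (.cons (tab_gen Gen.f).tabW (.cons (tab_x36.tabW.pow 2) (.cons (tab_x21.tabW.pow 3) .nil))))))))))))))))))))))))))))))))))))))))))))))))))))))))))))))))))))))))))))))))))))))))))) (by decide +kernel)

noncomputable def x42 : ↥Gh :=
  [(gen Gen.d), x36 ^ 2, x21 ^ 3, x31 ^ 3, (gen Gen.g), (gen Gen.f), (gen Gen.b), (gen Gen.c), (gen Gen.e), (gen Gen.d), (gen Gen.g), (gen Gen.e), (gen Gen.d), (gen Gen.e), (gen Gen.g), (gen Gen.a), (gen Gen.d), (gen Gen.b), (gen Gen.f), (gen Gen.g), (gen Gen.d), (gen Gen.f), x36 ^ 2, x26 ^ 2, (gen Gen.b), (gen Gen.g), (gen Gen.d), (gen Gen.c), (gen Gen.a), (gen Gen.d), (gen Gen.g), (gen Gen.e), (gen Gen.f), (gen Gen.a), (gen Gen.b), (gen Gen.f), (gen Gen.g), (gen Gen.c), (gen Gen.a), (gen Gen.f), (gen Gen.c), (gen Gen.f), (gen Gen.e), (gen Gen.d), n2, x21 ^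 3, x36 ^ 2].prod
theorem tab_x42 : Tab x42 Tx42 :=
  Tab.of_tabW (tabW_prodW (.cons (tab_gen Gen.d).tabW (.cons (tab_x36.tabW.pow 2) (.cons (tab_x21.tabW.pow 3) (.cons (tab_x31.tabW.pow 3) (.cons (tab_gen Gen.g).tabW (.cons (tab_gen Gen.f).tabW (.cons (tab_gen Gen.b).tabW (.cons (tab_gen Gen.c).tabW (.cons (tab_gen Gen.e).tabW (.cons (tab_gen Gen.d).tabW (.cons (tab_gen Gen.g).tabW (.cons (tab_gen Gen.e).tabW (.cons (tab_gen Gen.d).tabW (.cons (tab_gen Gen.e).tabW (.cons (tab_gen Gen.g).tabW (.cons (tab_gen Gen.a).tabW (.cons (tab_gen Gen.d).tabW (.cons (tab_gen Gen.b).tabW (.cons (tab_gen Gen.f).tabW (.cons (tab_gen Gen.g).tabW (.cons (tab_gen Gen.d).tabW (.cons (tab_gen Gen.f).tabW (.cons (tab_x36.tabW.pow 2) (.cons (tab_x26.tabW.pow 2) (.cons (tab_gen Gen.b).tabW (.cons (tab_gen Gen.g).tabW (.cons (tab_gen Gen.d).tabW (.cons (tab_gen Gen.c).tabW (.cons (tab_gen Gen.a).tabW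 (.cons (tab_gen Gen.d).tabW (.cons (tab_gen Gen.g).tabW (.cons (tab_gen Gen.e).tabW (.cons (tab_gen Gen.f).tabW (.cons (tab_gen Gen.a).tabW (.cons (tab_gen Gen.b).tabW (.cons (tab_gen Gen.f).tabW (.cons (tab_gen Gen.g).tabW (.cons (tab_gen Gen.c).tabW (.cons (tab_gen Gen.a).tabW (.cons (tab_gen Gen.f).tabW (.cons (tab_gen Gen.c).tabW (.cons (tab_gen Gen.f).tabW (.cons (tab_gen Gen.e).tabW (.cons (tab_gen Gen.d).tabW (.cons tab_n2.tabW (.cons (tab_x21.tabW.pow 3) (.cons (tab_x36.tabW.pow 2) .nil)))))))))))))))))))))))))))))))))))))))))))))))) (by decide +kernel)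
theorem tabi_x42 : Tab x42⁻¹ Ix42 := tab_x42.inv (by decide +kernel)

noncomputable def x43 : ↥Gh :=
  [x12 ^ 2, x26 ^ 2, (gen Gen.b), (gen Gen.g), (gen Gen.d), (gen Gen.c), (gen Gen.a), (gen Gen.d), (gen Gen.g), (gen Gen.e), (gen Gen.f), (gen Gen.a), (gen Gen.b), (gen Gen.f), (gen Gen.g), (gen Gen.c), (gen Gen.a), (gen Gen.f), (gen Gen.c), (gen Gen.f), (gen Gen.e), (gen Gen.d), x12 ^ 2, n2, x26 ^ 2, (gen Gen.b), (gen Gen.g), (gen Gen.d), (gen Gen.c), (gen Gen.a), (gen Gen.d), (gen Gen.g), (gen Gen.e), (gen Gen.f), (gen Gen.a), (gen Gen.b), (gen Gen.f), (gen Gen.g), (gen Gen.c), (gen Gen.a), (gen Gen.f), (gen Gen.c), (gen Gen.f), (gen Gen.e), (gen Gen.d), n2 ^ 3, (gen Gen.d), x10 ^ 2, (gen Gen.d), x21 ^ 3].prod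
theorem tab_x43 : Tab x43 Tx43 :=
  Tab.of_tabW (tabW_prodW (.cons (tab_x12.tabW.pow 2) (.cons (tab_x26.tabW.pow 2) (.cons (tab_gen Gen.b).tabW (.cons (tab_gen Gen.g).tabW (.cons (tab_gen Gen.d).tabW (.cons (tab_gen Gen.c).tabW (.cons (tab_gen Gen.a).tabW (.cons (tab_gen Gen.d).tabW (.cons (tab_gen Gen.g).tabW (.cons (tab_gen Gen.e).tabW (.cons (tab_gen Gen.f).tabW (.cons (tab_gen Gen.a).tabW (.cons (tab_gen Gen.b).tabW (.cons (tab_gen Gen.f).tabW (.cons (tab_gen Gen.g).tabW (.cons (tab_gen Gen.c).tabW (.cons (tab_gen Gen.a).tabW (.cons (tab_gen Gen.f).tabW (.cons (tab_gen Gen.c).tabW (.cons (tab_gen Gen.f).tabW (.cons (tab_gen Gen.e).tabW (.cons (tab_gen Gen.d).tabW (.cons (tab_x12.tabW.pow 2) (.cons tab_n2.tabW (.cons (tab_x26.tabW.pow 2) (.cons (tab_gen Gen.b).tabW (.cons (tab_gen Gen.g).tabW (.cons (tab_gen Gen.d).tabW (.cons (tab_gen Gen.c).tabW (.cons (tab_gen Gen.a).tabW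 (.cons (tab_gen Gen.d).tabW (.cons (tab_gen Gen.g).tabW (.cons (tab_gen Gen.e).tabW (.cons (tab_gen Gen.f).tabW (.cons (tab_gen Gen.a).tabW (.cons (tab_gen Gen.b).tabW (.cons (tab_gen Gen.f).tabW (.cons (tab_gen Gen.g).tabW (.cons (tab_gen Gen.c).tabW (.cons (tab_gen Gen.a).tabW (.cons (tab_gen Gen.f).tabW (.cons (tab_gen Gen.c).tabW (.cons (tab_gen Gen.f).tabW (.cons (tab_gen Gen.e).tabW (.cons (tab_gen Gen.d).tabW (.cons (tab_n2.tabW.pow 3) (.cons (tab_gen Gen.d).tabW (.cons (tab_x10.tabW.pow 2) (.cons (tab_gen Gen.d).tabW (.cons (tab_x21.tabW.pow 3) .nil))))))))))))))))))))))))))))))))))))))))))))))))))) (by decide +kernel)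

noncomputable def n3 : ↥Gh :=
  [x42 ^ 2].prod
theorem tab_n3 : Tab n3 Tn3 :=
  Tab.of_tabW (tabW_prodW (.cons (tab_x42.tabW.pow 2) .nil)) (by decide +kernel)

noncomputable def n4 : ↥Gh :=
  [x43 ^ 3, x36 ^ 2, x31 ^ 3, (gen Gen.g), (gen Gen.f), (gen Gen.b), (gen Gen.c), (gen Gen.e), (gen Gen.d), (gen Gen.g), (gen Gen.e), (gen Gen.d), (gen Gen.e), (gen Gen.g), (gen Gen.a), (gen Gen.d), (gen Gen.b), (gen Gen.f), (gen Gen.g), (gen Gen.d), (gen Gen.f), x10 ^ 2, x36 ^ 2, x12 ^ 2, (gen Gen.d), x12 ^ 2, x41].prod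
theorem tab_n4 : Tab n4 Tn4 :=
  Tab.of_tabW (tabW_prodW (.cons (tab_x43.tabW.pow 3) (.cons (tab_x36.tabW.pow 2) (.cons (tab_x31.tabW.pow 3) (.cons (tab_gen Gen.g).tabW (.cons (tab_gen Gen.f).tabW (.cons (tab_gen Gen.b).tabW (.cons (tab_gen Gen.c).tabW (.cons (tab_gen Gen.e).tabW (.cons (tab_gen Gen.d).tabW (.cons (tab_gen Gen.g).tabW (.cons (tab_gen Gen.e).tabW (.cons (tab_gen Gen.d).tabW (.cons (tab_gen Gen.e).tabW (.cons (tab_gen Gen.g).tabW (.cons (tab_gen Gen.a).tabW (.cons (tab_gen Gen.d).tabW (.cons (tab_gen Gen.b).tabW (.cons (tab_gen Gen.f).tabW (.cons (tab_gen Gen.g).tabW (.cons (tab_gen Gen.d).tabW (.cons (tab_gen Gen.f).tabW (.cons (tab_x10.tabW.pow 2) (.cons (tab_x36.tabW.pow 2) (.cons (tab_x12.tabW.pow 2) (.cons (tab_gen Gen.d).tabW (.cons (tab_x12.tabW.pow 2) (.cons tab_x41.tabW .nil)))))))))))))))))))))))))))) (by decide +kernel)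

noncomputable def n6 : ↥Gh :=
  [x36 ^ 2, x31 ^ 3, (gen Gen.g), (gen Gen.f), (gen Gen.b), (gen Gen.c), (gen Gen.e), (gen Gen.d), (gen Gen.g), (gen Gen.e), (gen Gen.d), (gen Gen.e), (gen Gen.g), (gen Gen.a), (gen Gen.d), (gen Gen.b), (gen Gen.f), (gen Gen.g), (gen Gen.d), (gen Gen.f), x10 ^ 2, x36 ^ 2, x12 ^ 2, (gen Gen.d), x12 ^ 2, x41, x43 ^ 3].prod
theorem tab_n6 : Tab n6 Tn6 :=
  Tab.of_tabW (tabW_prodW (.cons (tab_x36.tabW.pow 2) (.cons (tab_x31.tabW.pow 3) (.cons (tab_gen Gen.g).tabW (.cons (tab_gen Gen.f).tabW (.cons (tab_gen Gen.b).tabW (.cons (tab_gen Gen.c).tabW (.cons (tab_gen Gen.e).tabW (.cons (tab_gen Gen.d).tabW (.cons (tab_gen Gen.g).tabW (.cons (tab_gen Gen.e).tabW (.cons (tab_gen Gen.d).tabW (.cons (tab_gen Gen.e).tabW (.cons (tab_gen Gen.g).tabW (.cons (tab_gen Gen.a).tabW (.cons (tab_gen Gen.d).tabW (.cons (tab_gen Gen.b).tabW (.cons (tab_gen Gen.f).tabW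 (.cons (tab_gen Gen.g).tabW (.cons (tab_gen Gen.d).tabW (.cons (tab_gen Gen.f).tabW (.cons (tab_x10.tabW.pow 2) (.cons (tab_x36.tabW.pow 2) (.cons (tab_x12.tabW.pow 2) (.cons (tab_gen Gen.d).tabW (.cons (tab_x12.tabW.pow 2) (.cons tab_x41.tabW (.cons (tab_x43.tabW.pow 3) .nil)))))))))))))))))))))))))))) (by decide +kernel)

noncomputable def x159 : ↥Gh :=
  [x36 ^ 2, x31 ^ 3, (gen Gen.g), (gen Gen.f), (gen Gen.b), (gen Gen.c), (gen Gen.e), (gen Gen.d), (gen Gen.g), (gen Gen.e), (gen Gen.d), (gen Gen.e), (gen Gen.g), (gen Gen.a), (gen Gen.d), (gen Gen.b), (gen Gen.f), (gen Gen.g), (gen Gen.d), (gen Gen.f), x10 ^ 2, x36 ^ 2, x12 ^ 2, (gen Gen.d), x12 ^ 2, x41, x36 ^ 2, x31 ^ 3, (gen Gen.g), (gen Gen.f), (gen Gen.b), (gen Gen.c), (gen Gen.e), (gen Gen.d), (gen Gen.g), (gen Gen.e), (gen Gen.d), (gen Gen.e), (gen Gen.g), (gen Gen.a), (gen Gen.d), (gen Gen.b), (gen Gen.f), (gen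 Gen.g), (gen Gen.d), (gen Gen.f), x10 ^ 2, x36 ^ 2, x12 ^ 2, (gen Gen.d), x12 ^ 2].prod
theorem tab_x159 : Tab x159 Tx159 :=
  Tab.of_tabW (tabW_prodW (.cons (tab_x36.tabW.pow 2) (.cons (tab_x31.tabW.pow 3) (.cons (tab_gen Gen.g).tabW (.cons (tab_gen Gen.f).tabW (.cons (tab_gen Gen.b).tabW (.cons (tab_gen Gen.c).tabW (.cons (tab_gen Gen.e).tabW (.cons (tab_gen Gen.d).tabW (.cons (tab_gen Gen.g).tabW (.cons (tab_gen Gen.e).tabW (.cons (tab_gen Gen.d).tabW (.cons (tab_gen Gen.e).tabW (.cons (tab_gen Gen.g).tabW (.cons (tab_gen Gen.a).tabW (.cons (tab_gen Gen.d).tabW (.cons (tab_gen Gen.b).tabW (.cons (tab_gen Gen.f).tabW (.cons (tab_gen Gen.g).tabW (.cons (tab_gen Gen.d).tabW (.cons (tab_gen Gen.f).tabW (.cons (tab_x10.tabW.pow 2) (.cons (tab_x36.tabW.pow 2) (.cons (tab_x12.tabW.pow 2) (.cons (tab_gen Gen.d).tabW (.cons (tab_x12.tabW.pow 2) (.cons tab_x41.tabW (.cons (tab_x36.tabW.pow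 2) (.cons (tab_x31.tabW.pow 3) (.cons (tab_gen Gen.g).tabW (.cons (tab_gen Gen.f).tabW (.cons (tab_gen Gen.b).tabW (.cons (tab_gen Gen.c).tabW (.cons (tab_gen Gen.e).tabW (.cons (tab_gen Gen.d).tabW (.cons (tab_gen Gen.g).tabW (.cons (tab_gen Gen.e).tabW (.cons (tab_gen Gen.d).tabW (.cons (tab_gen Gen.e).tabW (.cons (tab_gen Gen.g).tabW (.cons (tab_gen Gen.a).tabW (.cons (tab_gen Gen.d).tabW (.cons (tab_gen Gen.b).tabW (.cons (tab_gen Gen.f).tabW (.cons (tab_gen Gen.g).tabW (.cons (tab_gen Gen.d).tabW (.cons (tab_gen Gen.f).tabW (.cons (tab_x10.tabW.pow 2) (.cons (tab_x36.tabW.pow 2) (.cons (tab_x12.tabW.pow 2) (.cons (tab_gen Gen.d).tabW (.cons (tab_x12.tabW.pow 2) .nil)))))))))))))))))))))))))))))))))))))))))))))))))))) (by decide +kernel)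
theorem tabi_x159 : Tab x159⁻¹ Ix159 := tab_x159.inv (by decide +kernel)

end Cfsg.Agent.Lib.Helper8.HeTab
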