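import Cfsg.Agent.Lib.Helper8.HeElts.E0

/- elements of He as straight-line products with their packed tables (helper8, generated) -/
set_option autoImplicit false
set_option maxRecDepth 8000

namespace Cfsg.Agent.Lib.Helper8.HeTab

open Cfsg.Spor.He (Gen)
open Cfsg.Agent.Lib.Helper28 Cfsg.Agent.Lib.Helper28.TC Cfsg.Agent.Lib.Helper28.He2058
open Cfsg.Agent.Lib.Helper56.HePerm

noncomputable def vv : ↥Gh :=
  [x36 ^ 2, x31 ^ 3, (gen Gen.g), (gen Gen.f), (gen Gen.b), (gen Gen.c), (gen Gen.e), (gen Gen.d), (gen Gen.g), (gen Gen.e), (gen Gen.d), (gen Gen.e), (gen Gen.g), (gen Gen.a), (gen Gen.d), (gen Gen.b), (gen Gen.f), (gen Gen.g), (gen Gen.d), (gen Gen.f), x10 ^ 2, x36 ^ 2, x12 ^ 2, (gen Gen.d), x12 ^ 2, x42, x41, n2].prod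
theorem tab_vv : Tab vv Tvv :=
  Tab.of_tabW (tabW_prodW (.cons (tab_x36.tabW.pow 2) (.cons (tab_x31.tabW.pow 3) (.cons (tab_gen Gen.g).tabW (.cons (tab_gen Gen.f).tabW (.cons (tab_gen Gen.b).tabW (.cons (tab_gen Gen.c).tabW (.cons (tab_gen Gen.e).tabW (.cons (tab_gen Gen.d).tabW (.cons (tab_gen Gen.g).tabW (.cons (tab_gen Gen.e).tabW (.cons (tab_gen Gen.d).tabW (.cons (tab_gen Gen.e).tabW (.cons (tab_gen Gen.g).tabW (.cons (tab_gen Gen.a).tabW (.cons (tab_gen Gen.d).tabW (.cons (tab_gen Gen.b).tabW (.cons (tab_gen Gen.f).tabW (.cons (tab_gen Gen.g).tabW (.cons (tab_gen Gen.d).tabW (.cons (tab_gen Gen.f).tabW (.cons (tab_x10.tabW.pow 2) (.cons (tab_x36.tabW.pow 2) (.cons (tab_x12.tabW.pow 2) (.cons (tab_gen Gen.d).tabW (.cons (tab_x12.tabW.pow 2) (.cons tab_x42.tabW (.cons tab_x41.tabW (.cons tab_n2.tabW .nil))))))))))))))))))))))))))))) (by decide +kernel)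

noncomputable def x274 : ↥Gh :=
  [x36 ^ 2, x31 ^ 3, (gen Gen.g), (gen Gen.f), (gen Gen.b), (gen Gen.c), (gen Gen.e), (gen Gen.d), (gen Gen.g), (gen Gen.e), (gen Gen.d), (gen Gen.e), (gen Gen.g), (gen Gen.a), (gen Gen.d), (gen Gen.b), (gen Gen.f), (gen Gen.g), (gen Gen.d), (gen Gen.f), x10 ^ 2, x36 ^ 2, x12 ^ 2, (gen Gen.d), x12 ^ 2, x41, x36 ^ 2, x31 ^ 3, (gen Gen.g), (gen Gen.f), (gen Gen.b), (gen Gen.c), (gen Gen.e), (gen Gen.d), (gen Gen.g), (gen Gen.e), (gen Gen.d), (gen Gen.e), (gen Gen.g), (gen Gen.a), (gen Gen.d), (gen Gen.b), (gen Gen.f), (gen Gen.g), (gen Gen.d), (gen Gen.f), x10 ^ 2, x36 ^ 2, x12 ^ 2, (gen Gen.d), x12 ^ 2, x41].prod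
theorem tab_x274 : Tab x274 Tx274 :=
  Tab.of_tabW (tabW_prodW (.cons (tab_x36.tabW.pow 2) (.cons (tab_x31.tabW.pow 3) (.cons (tab_gen Gen.g).tabW (.cons (tab_gen Gen.f).tabW (.cons (tab_gen Gen.b).tabW (.cons (tab_gen Gen.c).tabW (.cons (tab_gen Gen.e).tabW (.cons (tab_gen Gen.d).tabW (.cons (tab_gen Gen.g).tabW (.cons (tab_gen Gen.e).tabW (.cons (tab_gen Gen.d).tabW (.cons (tab_gen Gen.e).tabW (.cons (tab_gen Gen.g).tabW (.cons (tab_gen Gen.a).tabW (.cons (tab_gen Gen.d).tabW (.cons (tab_gen Gen.b).tabW (.cons (tab_gen Gen.f).tabW (.cons (tab_gen Gen.g).tabW (.cons (tab_gen Gen.d).tabW (.cons (tab_gen Gen.f).tabW (.cons (tab_x10.tabW.pow 2) (.cons (tab_x36.tabW.pow 2) (.cons (tab_x12.tabW.pow 2) (.cons (tab_gen Gen.d).tabW (.cons (tab_x12.tabW.pow 2) (.cons tab_x41.tabW (.cons (tab_x36.tabW.pow 2) (.cons (tab_x31.tabW.pow 3) (.cons (tab_gen Gen.g).tabW (.cons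 (tab_gen Gen.f).tabW (.cons (tab_gen Gen.b).tabW (.cons (tab_gen Gen.c).tabW (.cons (tab_gen Gen.e).tabW (.cons (tab_gen Gen.d).tabW (.cons (tab_gen Gen.g).tabW (.cons (tab_gen Gen.e).tabW (.cons (tab_gen Gen.d).tabW (.cons (tab_gen Gen.e).tabW (.cons (tab_gen Gen.g).tabW (.cons (tab_gen Gen.a).tabW (.cons (tab_gen Gen.d).tabW (.cons (tab_gen Gen.b).tabW (.cons (tab_gen Gen.f).tabW (.cons (tab_gen Gen.g).tabW (.cons (tab_gen Gen.d).tabW (.cons (tab_gen Gen.f).tabW (.cons (tab_x10.tabW.pow 2) (.cons (tab_x36.tabW.pow 2) (.cons (tab_x12.tabW.pow 2) (.cons (tab_gen Gen.d).tabW (.cons (tab_x12.tabW.pow 2) (.cons tab_x41.tabW .nil))))))))))))))))))))))))))))))))))))))))))))))))))))) (by decide +kernel)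

noncomputable def x312 : ↥Gh :=
  [x36 ^ 2, x31 ^ 3, (gen Gen.g), (gen Gen.f), (gen Gen.b), (gen Gen.c), (gen Gen.e), (gen Gen.d), (gen Gen.g), (gen Gen.e), (gen Gen.d), (gen Gen.e), (gen Gen.g), (gen Gen.a), (gen Gen.d), (gen Gen.b), (gen Gen.f), (gen Gen.g), (gen Gen.d), (gen Gen.f), x10 ^ 2, x36 ^ 2, x12 ^ 2, (gen Gen.d), x12 ^ 2, x41, x36 ^ 2, x31 ^ 3, (gen Gen.g), (gen Gen.f), (gen Gen.b), (gen Gen.c), (gen Gen.e), (gen Gen.d), (gen Gen.g), (gen Gen.e), (gen Gen.d), (gen Gen.e), (gen Gen.g), (gen Gen.a), (gen Gen.d), (gen Gen.b), (gen Gen.f), (gen Gen.g), (gen Gen.d), (gen Gen.f), x10 ^ 2, x36 ^ 2, x12 ^ 2, (gen Gen.d), x12 ^ 2, x42].prod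
theorem tab_x312 : Tab x312 Tx312 :=
  Tab.of_tabW (tabW_prodW (.cons (tab_x36.tabW.pow 2) (.cons (tab_x31.tabW.pow 3) (.cons (tab_gen Gen.g).tabW (.cons (tab_gen Gen.f).tabW (.cons (tab_gen Gen.b).tabW (.cons (tab_gen Gen.c).tabW (.cons (tab_gen Gen.e).tabW (.cons (tab_gen Gen.d).tabW (.cons (tab_gen Gen.g).tabW (.cons (tab_gen Gen.e).tabW (.cons (tab_gen Gen.d).tabW (.cons (tab_gen Gen.e).tabW (.cons (tab_gen Gen.g).tabW (.cons (tab_gen Gen.a).tabW (.cons (tab_gen Gen.d).tabW (.cons (tab_gen Gen.b).tabW (.cons (tab_gen Gen.f).tabW (.cons (tab_gen Gen.g).tabW (.cons (tab_gen Gen.d).tabW (.cons (tab_gen Gen.f).tabW (.cons (tab_x10.tabW.pow 2) (.cons (tab_x36.tabW.pow 2) (.cons (tab_x12.tabW.pow 2) (.cons (tab_gen Gen.d).tabW (.cons (tab_x12.tabW.pow 2) (.cons tab_x41.tabW (.cons (tab_x36.tabW.pow 2) (.cons (tab_x31.tabW.pow 3) (.cons (tab_gen Gen.g).tabW (.cons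 (tab_gen Gen.f).tabW (.cons (tab_gen Gen.b).tabW (.cons (tab_gen Gen.c).tabW (.cons (tab_gen Gen.e).tabW (.cons (tab_gen Gen.d).tabW (.cons (tab_gen Gen.g).tabW (.cons (tab_gen Gen.e).tabW (.cons (tab_gen Gen.d).tabW (.cons (tab_gen Gen.e).tabW (.cons (tab_gen Gen.g).tabW (.cons (tab_gen Gen.a).tabW (.cons (tab_gen Gen.d).tabW (.cons (tab_gen Gen.b).tabW (.cons (tab_gen Gen.f).tabW (.cons (tab_gen Gen.g).tabW (.cons (tab_gen Gen.d).tabW (.cons (tab_gen Gen.f).tabW (.cons (tab_x10.tabW.pow 2) (.cons (tab_x36.tabW.pow 2) (.cons (tab_x12.tabW.pow 2) (.cons (tab_gen Gen.d).tabW (.cons (tab_x12.tabW.pow 2) (.cons tab_x42.tabW .nil))))))))))))))))))))))))))))))))))))))))))))))))))))) (by decide +kernel)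

noncomputable def tt : ↥Gh :=
  [x41, x42 ^ 2, x36 ^ 2, x31 ^ 3, (gen Gen.g), (gen Gen.f), (gen Gen.b), (gen Gen.c), (gen Gen.e), (gen Gen.d), (gen Gen.g), (gen Gen.e), (gen Gen.d), (gen Gen.e), (gen Gen.g), (gen Gen.a), (gen Gen.d), (gen Gen.b), (gen Gen.f), (gen Gen.g), (gen Gen.d), (gen Gen.f), x10 ^ 2, x36 ^ 2, x12 ^ 2, (gen Gen.d), x12 ^ 2, x41].prod
theorem tab_tt : Tab tt Ttt :=
  Tab.of_tabW (tabW_prodW (.cons tab_x41.tabW (.cons (tab_x42.tabW.pow 2) (.cons (tab_x36.tabW.pow 2) (.cons (tab_x31.tabW.pow 3) (.cons (tab_gen Gen.g).tabW (.cons (tab_gen Gen.f).tabW (.cons (tab_gen Gen.b).tabW (.cons (tab_gen Gen.c).tabW (.cons (tab_gen Gen.e).tabW (.cons (tab_gen Gen.d).tabW (.cons (tab_gen Gen.g).tabW (.cons (tab_gen Gen.e).tabW (.cons (tab_gen Gen.d).tabW (.cons (tab_gen Gen.e).tabW (.cons (tab_gen Gen.g).tabW (.cons (tab_gen Gen.a).tabW (.cons (tab_gen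 Gen.d).tabW (.cons (tab_gen Gen.b).tabW (.cons (tab_gen Gen.f).tabW (.cons (tab_gen Gen.g).tabW (.cons (tab_gen Gen.d).tabW (.cons (tab_gen Gen.f).tabW (.cons (tab_x10.tabW.pow 2) (.cons (tab_x36.tabW.pow 2) (.cons (tab_x12.tabW.pow 2) (.cons (tab_gen Gen.d).tabW (.cons (tab_x12.tabW.pow 2) (.cons tab_x41.tabW .nil))))))))))))))))))))))))))))) (by decide +kernel)

noncomputable def x583 : ↥Gh :=
  [x36 ^ 2, x31 ^ 3, (gen Gen.g), (gen Gen.f), (gen Gen.b), (gen Gen.c), (gen Gen.e), (gen Gen.d), (gen Gen.g), (gen Gen.e), (gen Gen.d), (gen Gen.e), (gen Gen.g), (gen Gen.a), (gen Gen.d), (gen Gen.b), (gen Gen.f), (gen Gen.g), (gen Gen.d), (gen Gen.f), x10 ^ 2, x36 ^ 2, x12 ^ 2, (gen Gen.d), x12 ^ 2, x43 ^ 3, x36 ^ 2, x31 ^ 3, (gen Gen.g), (gen Gen.f), (gen Gen.b), (gen Gen.c), (gen Gen.e), (gen Gen.d), (gen Gen.g), (gen Gen.e), (gen Gen.d), (gen Gen.e), (gen Gen.g),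 (gen Gen.a), (gen Gen.d), (gen Gen.b), (gen Gen.f), (gen Gen.g), (gen Gen.d), (gen Gen.f), x10 ^ 2, x36 ^ 2, x12 ^ 2, (gen Gen.d), x12 ^ 2, n2, x42].prod
theorem tab_x583 : Tab x583 Tx583 :=
  Tab.of_tabW (tabW_prodW (.cons (tab_x36.tabW.pow 2) (.cons (tab_x31.tabW.pow 3) (.cons (tab_gen Gen.g).tabW (.cons (tab_gen Gen.f).tabW (.cons (tab_gen Gen.b).tabW (.cons (tab_gen Gen.c).tabW (.cons (tab_gen Gen.e).tabW (.cons (tab_gen Gen.d).tabW (.cons (tab_gen Gen.g).tabW (.cons (tab_gen Gen.e).tabW (.cons (tab_gen Gen.d).tabW (.cons (tab_gen Gen.e).tabW (.cons (tab_gen Gen.g).tabW (.cons (tab_gen Gen.a).tabW (.cons (tab_gen Gen.d).tabW (.cons (tab_gen Gen.b).tabW (.cons (tab_gen Gen.f).tabW (.cons (tab_gen Gen.g).tabW (.cons (tab_gen Gen.d).tabW (.cons (tab_gen Gen.f).tabW (.cons (tab_x10.tabW.pow 2) (.cons (tab_x36.tabW.pow 2) (.cons (tab_x12.tabW.pow 2) (.cons (tab_gen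 Gen.d).tabW (.cons (tab_x12.tabW.pow 2) (.cons (tab_x43.tabW.pow 3) (.cons (tab_x36.tabW.pow 2) (.cons (tab_x31.tabW.pow 3) (.cons (tab_gen Gen.g).tabW (.cons (tab_gen Gen.f).tabW (.cons (tab_gen Gen.b).tabW (.cons (tab_gen Gen.c).tabW (.cons (tab_gen Gen.e).tabW (.cons (tab_gen Gen.d).tabW (.cons (tab_gen Gen.g).tabW (.cons (tab_gen Gen.e).tabW (.cons (tab_gen Gen.d).tabW (.cons (tab_gen Gen.e).tabW (.cons (tab_gen Gen.g).tabW (.cons (tab_gen Gen.a).tabW (.cons (tab_gen Gen.d).tabW (.cons (tab_gen Gen.b).tabW (.cons (tab_gen Gen.f).tabW (.cons (tab_gen Gen.g).tabW (.cons (tab_gen Gen.d).tabW (.cons (tab_gen Gen.f).tabW (.cons (tab_x10.tabW.pow 2) (.cons (tab_x36.tabW.pow 2) (.cons (tab_x12.tabW.pow 2) (.cons (tab_gen Gen.d).tabW (.cons (tab_x12.tabW.pow 2) (.cons tab_n2.tabW (.cons tab_x42.tabW .nil)))))))))))))))))))))))))))))))))))))))))))))))))))))) (by decide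 +kernel)

noncomputable def n5 : ↥Gh :=
  [x43 ^ 3, x41, x43 ^ 3, x42 ^ 2, x41].prod
theorem tab_n5 : Tab n5 Tn5 :=
  Tab.of_tabW (tabW_prodW (.cons (tab_x43.tabW.pow 3) (.cons tab_x41.tabW (.cons (tab_x43.tabW.pow 3) (.cons (tab_x42.tabW.pow 2) (.cons tab_x41.tabW .nil)))))) (by decide +kernel)

noncomputable def x938 : ↥Gh :=
  [x43 ^ 3, x41, x43 ^ 3, x42, x36 ^ 2, x31 ^ 3, (gen Gen.g), (gen Gen.f), (gen Gen.b), (gen Gen.c), (gen Gen.e), (gen Gen.d), (gen Gen.g), (gen Gen.e), (gen Gen.d), (gen Gen.e), (gen Gen.g), (gen Gen.a), (gen Gen.d), (gen Gen.b), (gen Gen.f), (gen Gen.g), (gen Gen.d), (gen Gen.f), x10 ^ 2, x36 ^ 2, x12 ^ 2, (gen Gen.d), x12 ^ 2, x42].prod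
theorem tab_x938 : Tab x938 Tx938 :=
  Tab.of_tabW (tabW_prodW (.cons (tab_x43.tabW.pow 3) (.cons tab_x41.tabW (.cons (tab_x43.tabW.pow 3) (.cons tab_x42.tabW (.cons (tab_x36.tabW.pow 2) (.cons (tab_x31.tabW.pow 3) (.cons (tab_gen Gen.g).tabW (.cons (tab_gen Gen.f).tabW (.cons (tab_gen Gen.b).tabW (.cons (tab_gen Gen.c).tabW (.cons (tab_gen Gen.e).tabW (.cons (tab_gen Gen.d).tabW (.cons (tab_gen Gen.g).tabW (.cons (tab_gen Gen.e).tabW (.cons (tab_gen Gen.d).tabW (.cons (tab_gen Gen.e).tabW (.cons (tab_gen Gen.g).tabW (.cons (tab_gen Gen.a).tabW (.cons (tab_gen Gen.d).tabW (.cons (tab_gen Gen.b).tabW (.cons (tab_gen Gen.f).tabW (.cons (tab_gen Gen.g).tabW (.cons (tab_gen Gen.d).tabW (.cons (tab_gen Gen.f).tabW (.cons (tab_x10.tabW.pow 2) (.cons (tab_x36.tabW.pow 2) (.cons (tab_x12.tabW.pow 2) (.cons (tab_gen Gen.d).tabW (.cons (tab_x12.tabW.pow 2) (.cons tab_x42.tabW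 .nil))))))))))))))))))))))))))))))) (by decide +kernel)

noncomputable def x1092 : ↥Gh :=
  [n2, (gen Gen.b), (gen Gen.f), (gen Gen.d), (gen Gen.e), (gen Gen.g), (gen Gen.a), (gen Gen.f), (gen Gen.d), (gen Gen.b), (gen Gen.f), (gen Gen.e), (gen Gen.g), (gen Gen.c), (gen Gen.g), (gen Gen.d), (gen Gen.b), (gen Gen.f), (gen Gen.d), (gen Gen.b), (gen Gen.c), (gen Gen.e), n2, (gen Gen.e), (gen Gen.c), (gen Gen.b), (gen Gen.d), (gen Gen.f), (gen Gen.b), (gen Gen.d), (gen Gen.g), (gen Gen.c), (gen Gen.g), (gen Gen.e), (gen Gen.f), (gen Gen.b), (gen Gen.d), (gen Gen.f), (gen Gen.a), (gen Gen.g), (gen Gen.e), (gen Gen.d), (gen Gen.f), (gen Gen.b)].prod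
theorem tab_x1092 : Tab x1092 Tx1092 :=
  Tab.of_tabW (tabW_prodW (.cons tab_n2.tabW (.cons (tab_gen Gen.b).tabW (.cons (tab_gen Gen.f).tabW (.cons (tab_gen Gen.d).tabW (.cons (tab_gen Gen.e).tabW (.cons (tab_gen Gen.g).tabW (.cons (tab_gen Gen.a).tabW (.cons (tab_gen Gen.f).tabW (.cons (tab_gen Gen.d).tabW (.cons (tab_gen Gen.b).tabW (.cons (tab_gen Gen.f).tabW (.cons (tab_gen Gen.e).tabW (.cons (tab_gen Gen.g).tabW (.cons (tab_gen Gen.c).tabW (.cons (tab_gen Gen.g).tabW (.cons (tab_gen Gen.d).tabW (.cons (tab_gen Gen.b).tabW (.cons (tab_gen Gen.f).tabW (.cons (tab_gen Gen.d).tabW (.cons (tab_gen Gen.b).tabW (.cons (tab_gen Gen.c).tabW (.cons (tab_gen Gen.e).tabW (.cons tab_n2.tabW (.cons (tab_gen Gen.e).tabW (.cons (tab_gen Gen.c).tabW (.cons (tab_gen Gen.b).tabW (.cons (tab_gen Gen.d).tabW (.cons (tab_gen Gen.f).tabW (.cons (tab_gen Gen.b).tabW (.cons (tab_gen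 Gen.d).tabW (.cons (tab_gen Gen.g).tabW (.cons (tab_gen Gen.c).tabW (.cons (tab_gen Gen.g).tabW (.cons (tab_gen Gen.e).tabW (.cons (tab_gen Gen.f).tabW (.cons (tab_gen Gen.b).tabW (.cons (tab_gen Gen.d).tabW (.cons (tab_gen Gen.f).tabW (.cons (tab_gen Gen.a).tabW (.cons (tab_gen Gen.g).tabW (.cons (tab_gen Gen.e).tabW (.cons (tab_gen Gen.d).tabW (.cons (tab_gen Gen.f).tabW (.cons (tab_gen Gen.b).tabW .nil))))))))))))))))))))))))))))))))))))))))))))) (by decide +kernel)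

noncomputable def x1129 : ↥Gh :=
  [x36 ^ 2, x31 ^ 3, (gen Gen.g), (gen Gen.f), (gen Gen.b), (gen Gen.c), (gen Gen.e), (gen Gen.d), (gen Gen.g), (gen Gen.e), (gen Gen.d), (gen Gen.e), (gen Gen.g), (gen Gen.a), (gen Gen.d), (gen Gen.b), (gen Gen.f), (gen Gen.g), (gen Gen.d), (gen Gen.f), x10 ^ 2, x36 ^ 2, x12 ^ 2, (gen Gen.d), x12 ^ 2, x43 ^ 3, x41 ^ 2, n2, x12⁻¹ ^ 2, x10⁻¹ ^ 2, x16 ^ 3, (gen Gen.d), (gen Gen.a), (gen Gen.g), (gen Gen.d), (gen Gen.e), (gen Gen.g), (gen Gen.a), (gen Gen.f), (gen Gen.d), (gen Gen.c), (gen Gen.f), x12 ^ 2, x10 ^ 2, x12⁻¹ ^ 2, x10⁻¹ ^ 2, x16 ^ 3, (gen Gen.d), (gen Gen.a), (gen Gen.g), (gen Gen.d), (gen Gen.e), (gen Gen.g), (gen Gen.a), (gen Gen.f), (gen Gen.d), (gen Gen.c), (gen Gen.f), x12 ^ 2, x10 ^ 2, x1092 ^ 2, n2, (gen Gen.e), (gen Gen.a), (gen Gen.d), (gen Gen.c), (gen Gen.d), (gen Gen.c), (gen Gen.f), (gen Gen.d), (gen Gen.f),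 (gen Gen.d), (gen Gen.c), (gen Gen.e), (gen Gen.c), (gen Gen.f), (gen Gen.a), (gen Gen.g), n2, (gen Gen.g), (gen Gen.a), (gen Gen.f), (gen Gen.c), (gen Gen.e), (gen Gen.c), (gen Gen.d), (gen Gen.f), (gen Gen.d), (gen Gen.f), (gen Gen.c), (gen Gen.d), (gen Gen.c), (gen Gen.d), (gen Gen.a), (gen Gen.e), x36 ^ 2].prod
theorem tab_x1129 : Tab x1129 Tx1129 :=
  Tab.of_tabW (tabW_prodW (.cons (tab_x36.tabW.pow 2) (.cons (tab_x31.tabW.pow 3) (.cons (tab_gen Gen.g).tabW (.cons (tab_gen Gen.f).tabW (.cons (tab_gen Gen.b).tabW (.cons (tab_gen Gen.c).tabW (.cons (tab_gen Gen.e).tabW (.cons (tab_gen Gen.d).tabW (.cons (tab_gen Gen.g).tabW (.cons (tab_gen Gen.e).tabW (.cons (tab_gen Gen.d).tabW (.cons (tab_gen Gen.e).tabW (.cons (tab_gen Gen.g).tabW (.cons (tab_gen Gen.a).tabW (.cons (tab_gen Gen.d).tabW (.cons (tab_gen Gen.b).tabW (.cons (tab_gen Gen.f).tabW (.cons (tab_gen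 Gen.g).tabW (.cons (tab_gen Gen.d).tabW (.cons (tab_gen Gen.f).tabW (.cons (tab_x10.tabW.pow 2) (.cons (tab_x36.tabW.pow 2) (.cons (tab_x12.tabW.pow 2) (.cons (tab_gen Gen.d).tabW (.cons (tab_x12.tabW.pow 2) (.cons (tab_x43.tabW.pow 3) (.cons (tab_x41.tabW.pow 2) (.cons tab_n2.tabW (.cons (tabi_x12.tabW.pow 2) (.cons (tabi_x10.tabW.pow 2) (.cons (tab_x16.tabW.pow 3) (.cons (tab_gen Gen.d).tabW (.cons (tab_gen Gen.a).tabW (.cons (tab_gen Gen.g).tabW (.cons (tab_gen Gen.d).tabW (.cons (tab_gen Gen.e).tabW (.cons (tab_gen Gen.g).tabW (.cons (tab_gen Gen.a).tabW (.cons (tab_gen Gen.f).tabW (.cons (tab_gen Gen.d).tabW (.cons (tab_gen Gen.c).tabW (.cons (tab_gen Gen.f).tabW (.cons (tab_x12.tabW.pow 2) (.cons (tab_x10.tabW.pow 2) (.cons (tabi_x12.tabW.pow 2) (.cons (tabi_x10.tabW.pow 2) (.cons (tab_x16.tabW.pow 3) (.cons (tab_gen Gen.d).tabW (.cons (tab_gen Gen.a).tabW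 (.cons (tab_gen Gen.g).tabW (.cons (tab_gen Gen.d).tabW (.cons (tab_gen Gen.e).tabW (.cons (tab_gen Gen.g).tabW (.cons (tab_gen Gen.a).tabW (.cons (tab_gen Gen.f).tabW (.cons (tab_gen Gen.d).tabW (.cons (tab_gen Gen.c).tabW (.cons (tab_gen Gen.f).tabW (.cons (tab_x12.tabW.pow 2) (.cons (tab_x10.tabW.pow 2) (.cons (tab_x1092.tabW.pow 2) (.cons tab_n2.tabW (.cons (tab_gen Gen.e).tabW (.cons (tab_gen Gen.a).tabW (.cons (tab_gen Gen.d).tabW (.cons (tab_gen Gen.c).tabW (.cons (tab_gen Gen.d).tabW (.cons (tab_gen Gen.c).tabW (.cons (tab_gen Gen.f).tabW (.cons (tab_gen Gen.d).tabW (.cons (tab_gen Gen.f).tabW (.cons (tab_gen Gen.d).tabW (.cons (tab_gen Gen.c).tabW (.cons (tab_gen Gen.e).tabW (.cons (tab_gen Gen.c).tabW (.cons (tab_gen Gen.f).tabW (.cons (tab_gen Gen.a).tabW (.cons (tab_gen Gen.g).tabW (.cons tab_n2.tabW (.cons (tab_gen Gen.g).tabW (.cons (tab_gen Gen.a).tabW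 (.cons (tab_gen Gen.f).tabW (.cons (tab_gen Gen.c).tabW (.cons (tab_gen Gen.e).tabW (.cons (tab_gen Gen.c).tabW (.cons (tab_gen Gen.d).tabW (.cons (tab_gen Gen.f).tabW (.cons (tab_gen Gen.d).tabW (.cons (tab_gen Gen.f).tabW (.cons (tab_gen Gen.c).tabW (.cons (tab_gen Gen.d).tabW (.cons (tab_gen Gen.c).tabW (.cons (tab_gen Gen.d).tabW (.cons (tab_gen Gen.a).tabW (.cons (tab_gen Gen.e).tabW (.cons (tab_x36.tabW.pow 2) .nil))))))))))))))))))))))))))))))))))))))))))))))))))))))))))))))))))))))))))))))))))))))))))))))))) (by decide +kernel)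

noncomputable def zz : ↥Gh :=
  [x1129 ^ 4].prod
theorem tab_zz : Tab zz Tzz :=
  Tab.of_tabW (tabW_prodW (.cons (tab_x1129.tabW.pow 4) .nil)) (by decide +kernel)

noncomputable def x1195 : ↥Gh :=
  [x43 ^ 3, x42 ^ 2, x36 ^ 2, x31 ^ 3, (gen Gen.g), (gen Gen.f), (gen Gen.b), (gen Gen.c), (gen Gen.e), (gen Gen.d), (gen Gen.g), (gen Gen.e), (gen Gen.d), (gen Gen.e), (gen Gen.g), (gen Gen.a), (gen Gen.d), (gen Gen.b), (gen Gen.f), (gen Gen.g), (gen Gen.d), (gen Gen.f), x10 ^ 2, x36 ^ 2, x12 ^ 2, (gen Gen.d), x12 ^ 2, x41, x12⁻¹ ^ 2, x10⁻¹ ^ 2, x16 ^ 3, (gen Gen.d), (gen Gen.a), (gen Gen.g), (gen Gen.d), (gen Gen.e), (gen Gen.g), (gen Gen.a), (gen Gen.f), (gen Gen.d), (gen Gen.c), (gen Gen.f), x12 ^ 2].prod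
theorem tab_x1195 : Tab x1195 Tx1195 :=
  Tab.of_tabW (tabW_prodW (.cons (tab_x43.tabW.pow 3) (.cons (tab_x42.tabW.pow 2) (.cons (tab_x36.tabW.pow 2) (.cons (tab_x31.tabW.pow 3) (.cons (tab_gen Gen.g).tabW (.cons (tab_gen Gen.f).tabW (.cons (tab_gen Gen.b).tabW (.cons (tab_gen Gen.c).tabW (.cons (tab_gen Gen.e).tabW (.cons (tab_gen Gen.d).tabW (.cons (tab_gen Gen.g).tabW (.cons (tab_gen Gen.e).tabW (.cons (tab_gen Gen.d).tabW (.cons (tab_gen Gen.e).tabW (.cons (tab_gen Gen.g).tabW (.cons (tab_gen Gen.a).tabW (.cons (tab_gen Gen.d).tabW (.cons (tab_gen Gen.b).tabW (.cons (tab_gen Gen.f).tabW (.cons (tab_gen Gen.g).tabW (.cons (tab_gen Gen.d).tabW (.cons (tab_gen Gen.f).tabW (.cons (tab_x10.tabW.pow 2) (.cons (tab_x36.tabW.pow 2) (.cons (tab_x12.tabW.pow 2) (.cons (tab_gen Gen.d).tabW (.cons (tab_x12.tabW.pow 2) (.cons tab_x41.tabW (.cons (tabi_x12.tabW.pow 2) (.cons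 (tabi_x10.tabW.pow 2) (.cons (tab_x16.tabW.pow 3) (.cons (tab_gen Gen.d).tabW (.cons (tab_gen Gen.a).tabW (.cons (tab_gen Gen.g).tabW (.cons (tab_gen Gen.d).tabW (.cons (tab_gen Gen.e).tabW (.cons (tab_gen Gen.g).tabW (.cons (tab_gen Gen.a).tabW (.cons (tab_gen Gen.f).tabW (.cons (tab_gen Gen.d).tabW (.cons (tab_gen Gen.c).tabW (.cons (tab_gen Gen.f).tabW (.cons (tab_x12.tabW.pow 2) .nil)))))))))))))))))))))))))))))))))))))))))))) (by decide +kernel)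

noncomputable def ss : ↥Gh :=
  [x42 ^ 2, x274, x1092 ^ 2, n2, (gen Gen.e), (gen Gen.a), (gen Gen.d), (gen Gen.c), (gen Gen.d), (gen Gen.c), (gen Gen.f), (gen Gen.d), (gen Gen.f), (gen Gen.d), (gen Gen.c), (gen Gen.e), (gen Gen.c), (gen Gen.f), (gen Gen.a), (gen Gen.g), n2, (gen Gen.g), (gen Gen.a), (gen Gen.f), (gen Gen.c), (gen Gen.e), (gen Gen.c), (gen Gen.d), (gen Gen.f), (gen Gen.d), (gen Gen.f), (gen Gen.c), (gen Gen.d), (gen Gen.c), (gen Gen.d), (gen Gen.a), (gen Gen.e), x42, x583, vv, x42, x583, x42 ^ 2, x274, x1092 ^ 2, n2, (gen Gen.e), (gen Gen.a), (gen Gen.d), (gen Gen.c), (gen Gen.d), (gen Gen.c), (gen Gen.f), (gen Gen.d), (gen Gen.f), (gen Gen.d), (gen Gen.c), (gen Gen.e), (gen Gen.c), (gen Gen.f), (gen Gen.a), (gen Gen.g), n2, (gen Gen.g), (gen Gen.a), (gen Gen.f), (gen Gen.c), (gen Gen.e), (gen Gen.c), (gen Gen.d), (gen Gen.f), (gen Gen.d), (gen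 Gen.f), (gen Gen.c), (gen Gen.d), (gen Gen.c), (gen Gen.d), (gen Gen.a), (gen Gen.e), x42 ^ 2, x274, x1092 ^ 2, n2, (gen Gen.e), (gen Gen.a), (gen Gen.d), (gen Gen.c), (gen Gen.d), (gen Gen.c), (gen Gen.f), (gen Gen.d), (gen Gen.f), (gen Gen.d), (gen Gen.c), (gen Gen.e), (gen Gen.c), (gen Gen.f), (gen Gen.a), (gen Gen.g), n2, (gen Gen.g), (gen Gen.a), (gen Gen.f), (gen Gen.c), (gen Gen.e), (gen Gen.c), (gen Gen.d), (gen Gen.f), (gen Gen.d), (gen Gen.f), (gen Gen.c), (gen Gen.d), (gen Gen.c), (gen Gen.d), (gen Gen.a), (gen Gen.e)].prod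
theorem tab_ss : Tab ss Tss :=
  Tab.of_tabW (tabW_prodW (.cons (tab_x42.tabW.pow 2) (.cons tab_x274.tabW (.cons (tab_x1092.tabW.pow 2) (.cons tab_n2.tabW (.cons (tab_gen Gen.e).tabW (.cons (tab_gen Gen.a).tabW (.cons (tab_gen Gen.d).tabW (.cons (tab_gen Gen.c).tabW (.cons (tab_gen Gen.d).tabW (.cons (tab_gen Gen.c).tabW (.cons (tab_gen Gen.f).tabW (.cons (tab_gen Gen.d).tabW (.cons (tab_gen Gen.f).tabW (.cons (tab_gen Gen.d).tabW (.cons (tab_gen Gen.c).tabW (.cons (tab_gen Gen.e).tabW (.cons (tab_gen Gen.c).tabW (.cons (tab_gen Gen.f).tabW (.cons (tab_gen Gen.a).tabW (.cons (tab_gen Gen.g).tabW (.cons tab_n2.tabW (.cons (tab_gen Gen.g).tabW (.cons (tab_gen Gen.a).tabW (.cons (tab_gen Gen.f).tabW (.cons (tab_gen Gen.c).tabW (.cons (tab_gen Gen.e).tabW (.cons (tab_gen Gen.c).tabW (.cons (tab_gen Gen.d).tabW (.cons (tab_gen Gen.f).tabW (.cons (tab_gen Gen.d).tabW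 (.cons (tab_gen Gen.f).tabW (.cons (tab_gen Gen.c).tabW (.cons (tab_gen Gen.d).tabW (.cons (tab_gen Gen.c).tabW (.cons (tab_gen Gen.d).tabW (.cons (tab_gen Gen.a).tabW (.cons (tab_gen Gen.e).tabW (.cons tab_x42.tabW (.cons tab_x583.tabW (.cons tab_vv.tabW (.cons tab_x42.tabW (.cons tab_x583.tabW (.cons (tab_x42.tabW.pow 2) (.cons tab_x274.tabW (.cons (tab_x1092.tabW.pow 2) (.cons tab_n2.tabW (.cons (tab_gen Gen.e).tabW (.cons (tab_gen Gen.a).tabW (.cons (tab_gen Gen.d).tabW (.cons (tab_gen Gen.c).tabW (.cons (tab_gen Gen.d).tabW (.cons (tab_gen Gen.c).tabW (.cons (tab_gen Gen.f).tabW (.cons (tab_gen Gen.d).tabW (.cons (tab_gen Gen.f).tabW (.cons (tab_gen Gen.d).tabW (.cons (tab_gen Gen.c).tabW (.cons (tab_gen Gen.e).tabW (.cons (tab_gen Gen.c).tabW (.cons (tab_gen Gen.f).tabW (.cons (tab_gen Gen.a).tabW (.cons (tab_gen Gen.g).tabW (.cons tab_n2.tabW (.cons (tab_gen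 Gen.g).tabW (.cons (tab_gen Gen.a).tabW (.cons (tab_gen Gen.f).tabW (.cons (tab_gen Gen.c).tabW (.cons (tab_gen Gen.e).tabW (.cons (tab_gen Gen.c).tabW (.cons (tab_gen Gen.d).tabW (.cons (tab_gen Gen.f).tabW (.cons (tab_gen Gen.d).tabW (.cons (tab_gen Gen.f).tabW (.cons (tab_gen Gen.c).tabW (.cons (tab_gen Gen.d).tabW (.cons (tab_gen Gen.c).tabW (.cons (tab_gen Gen.d).tabW (.cons (tab_gen Gen.a).tabW (.cons (tab_gen Gen.e).tabW (.cons (tab_x42.tabW.pow 2) (.cons tab_x274.tabW (.cons (tab_x1092.tabW.pow 2) (.cons tab_n2.tabW (.cons (tab_gen Gen.e).tabW (.cons (tab_gen Gen.a).tabW (.cons (tab_gen Gen.d).tabW (.cons (tab_gen Gen.c).tabW (.cons (tab_gen Gen.d).tabW (.cons (tab_gen Gen.c).tabW (.cons (tab_gen Gen.f).tabW (.cons (tab_gen Gen.d).tabW (.cons (tab_gen Gen.f).tabW (.cons (tab_gen Gen.d).tabW (.cons (tab_gen Gen.c).tabW (.cons (tab_gen Gen.e).tabW (.cons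 (tab_gen Gen.c).tabW (.cons (tab_gen Gen.f).tabW (.cons (tab_gen Gen.a).tabW (.cons (tab_gen Gen.g).tabW (.cons tab_n2.tabW (.cons (tab_gen Gen.g).tabW (.cons (tab_gen Gen.a).tabW (.cons (tab_gen Gen.f).tabW (.cons (tab_gen Gen.c).tabW (.cons (tab_gen Gen.e).tabW (.cons (tab_gen Gen.c).tabW (.cons (tab_gen Gen.d).tabW (.cons (tab_gen Gen.f).tabW (.cons (tab_gen Gen.d).tabW (.cons (tab_gen Gen.f).tabW (.cons (tab_gen Gen.c).tabW (.cons (tab_gen Gen.d).tabW (.cons (tab_gen Gen.c).tabW (.cons (tab_gen Gen.d).tabW (.cons (tab_gen Gen.a).tabW (.cons (tab_gen Gen.e).tabW .nil))))))))))))))))))))))))))))))))))))))))))))))))))))))))))))))))))))))))))))))))))))))))))))))))))))))))))))))))))))) (by decide +kernel)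

end Cfsg.Agent.Lib.Helper8.HeTab
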