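import Cfsg.Agent.Lib.Helper8.HeElts.E1

/- elements of He as straight-line products with their packed tables (helper8, generated) -/
set_option autoImplicit false
set_option maxRecDepth 8000

namespace Cfsg.Agent.Lib.Helper8.HeTab

open Cfsg.Spor.He (Gen)
open Cfsg.Agent.Lib.Helper28 Cfsg.Agent.Lib.Helper28.TC Cfsg.Agent.Lib.Helper28.He2058
open Cfsg.Agent.Lib.Helper56.HePerm

noncomputable def x1223 : ↥Gh :=
  [(gen Gen.a), (gen Gen.c), (gen Gen.d), (gen Gen.g), (gen Gen.b), (gen Gen.d), (gen Gen.e), x43 ^ 3, x36 ^ 2, x31 ^ 3, (gen Gen.g), (gen Gen.f), (gen Gen.b), (gen Gen.c), (gen Gen.e), (gen Gen.d), (gen Gen.g), (gen Gen.e), (gen Gen.d), (gen Gen.e), (gen Gen.g), (gen Gen.a), (gen Gen.d), (gen Gen.b), (gen Gen.f), (gen Gen.g), (gen Gen.d), (gen Gen.f), x10 ^ 2, x36 ^ 2, x12 ^ 2, (gen Gen.d), x12 ^ 2, n2, x41, (gen Gen.e), (gen Gen.d), (gen Gen.b), (gen Gen.g), (gen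 Gen.d), (gen Gen.c), (gen Gen.a)].prod
theorem tab_x1223 : Tab x1223 Tx1223 :=
  Tab.of_tabW (tabW_prodW (.cons (tab_gen Gen.a).tabW (.cons (tab_gen Gen.c).tabW (.cons (tab_gen Gen.d).tabW (.cons (tab_gen Gen.g).tabW (.cons (tab_gen Gen.b).tabW (.cons (tab_gen Gen.d).tabW (.cons (tab_gen Gen.e).tabW (.cons (tab_x43.tabW.pow 3) (.cons (tab_x36.tabW.pow 2) (.cons (tab_x31.tabW.pow 3) (.cons (tab_gen Gen.g).tabW (.cons (tab_gen Gen.f).tabW (.cons (tab_gen Gen.b).tabW (.cons (tab_gen Gen.c).tabW (.cons (tab_gen Gen.e).tabW (.cons (tab_gen Gen.d).tabW (.cons (tab_gen Gen.g).tabW (.cons (tab_gen Gen.e).tabW (.cons (tab_gen Gen.d).tabW (.cons (tab_gen Gen.e).tabW (.cons (tab_gen Gen.g).tabW (.cons (tab_gen Gen.a).tabW (.cons (tab_gen Gen.d).tabW (.cons (tab_gen Gen.b).tabW (.cons (tab_gen Gen.f).tabW (.cons (tab_gen Gen.g).tabW (.cons (tab_gen Gen.d).tabW (.cons (tab_gen Gen.f).tabW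 (.cons (tab_x10.tabW.pow 2) (.cons (tab_x36.tabW.pow 2) (.cons (tab_x12.tabW.pow 2) (.cons (tab_gen Gen.d).tabW (.cons (tab_x12.tabW.pow 2) (.cons tab_n2.tabW (.cons tab_x41.tabW (.cons (tab_gen Gen.e).tabW (.cons (tab_gen Gen.d).tabW (.cons (tab_gen Gen.b).tabW (.cons (tab_gen Gen.g).tabW (.cons (tab_gen Gen.d).tabW (.cons (tab_gen Gen.c).tabW (.cons (tab_gen Gen.a).tabW .nil))))))))))))))))))))))))))))))))))))))))))) (by decide +kernel)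

noncomputable def x1224 : ↥Gh :=
  [ss, x1223].prod
theorem tab_x1224 : Tab x1224 Tx1224 :=
  Tab.of_tabW (tabW_prodW (.cons tab_ss.tabW (.cons tab_x1223.tabW .nil))) (by decide +kernel)

noncomputable def cs : ↥Gh :=
  [x1224 ^ 3, (gen Gen.a), (gen Gen.c), (gen Gen.d), (gen Gen.g), (gen Gen.b), (gen Gen.d), (gen Gen.e)].prod
theorem tab_cs : Tab cs Tcs :=
  Tab.of_tabW (tabW_prodW (.cons (tab_x1224.tabW.pow 3) (.cons (tab_gen Gen.a).tabW (.cons (tab_gen Gen.c).tabW (.cons (tab_gen Gen.d).tabW (.cons (tab_gen Gen.g).tabW (.cons (tab_gen Gen.b).tabW (.cons (tab_gen Gen.d).tabW (.cons (tab_gen Gen.e).tabW .nil))))))))) (by decide +kernel)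

noncomputable def x1228 : ↥Gh :=
  [(gen Gen.b), (gen Gen.a), (gen Gen.f), (gen Gen.b), (gen Gen.d), (gen Gen.c), (gen Gen.b), (gen Gen.g), (gen Gen.d), (gen Gen.b), x43 ^ 3, x42 ^ 2, x36 ^ 2, x31 ^ 3, (gen Gen.g), (gen Gen.f), (gen Gen.b), (gen Gen.c), (gen Gen.e), (gen Gen.d), (gen Gen.g), (gen Gen.e), (gen Gen.d), (gen Gen.e), (gen Gen.g), (gen Gen.a), (gen Gen.d), (gen Gen.b), (gen Gen.f), (gen Gen.g), (gen Gen.d), (gen Gen.f), x10 ^ 2, x36 ^ 2, x12 ^ 2, (gen Gen.d), x12 ^ 2, x41, (gen Gen.b), (gen Gen.d), (gen Gen.g), (gen Gen.b), (gen Gen.c), (gen Gen.d), (gen Gen.b), (gen Gen.f), (gen Gen.a), (gen Gen.b)].prod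
theorem tab_x1228 : Tab x1228 Tx1228 :=
  Tab.of_tabW (tabW_prodW (.cons (tab_gen Gen.b).tabW (.cons (tab_gen Gen.a).tabW (.cons (tab_gen Gen.f).tabW (.cons (tab_gen Gen.b).tabW (.cons (tab_gen Gen.d).tabW (.cons (tab_gen Gen.c).tabW (.cons (tab_gen Gen.b).tabW (.cons (tab_gen Gen.g).tabW (.cons (tab_gen Gen.d).tabW (.cons (tab_gen Gen.b).tabW (.cons (tab_x43.tabW.pow 3) (.cons (tab_x42.tabW.pow 2) (.cons (tab_x36.tabW.pow 2) (.cons (tab_x31.tabW.pow 3) (.cons (tab_gen Gen.g).tabW (.cons (tab_gen Gen.f).tabW (.cons (tab_gen Gen.b).tabW (.cons (tab_gen Gen.c).tabW (.cons (tab_gen Gen.e).tabW (.cons (tab_gen Gen.d).tabW (.cons (tab_gen Gen.g).tabW (.cons (tab_gen Gen.e).tabW (.cons (tab_gen Gen.d).tabW (.cons (tab_gen Gen.e).tabW (.cons (tab_gen Gen.g).tabW (.cons (tab_gen Gen.a).tabW (.cons (tab_gen Gen.d).tabW (.cons (tab_gen Gen.b).tabW (.cons (tab_gen Gen.f).tabW (.cons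 (tab_gen Gen.g).tabW (.cons (tab_gen Gen.d).tabW (.cons (tab_gen Gen.f).tabW (.cons (tab_x10.tabW.pow 2) (.cons (tab_x36.tabW.pow 2) (.cons (tab_x12.tabW.pow 2) (.cons (tab_gen Gen.d).tabW (.cons (tab_x12.tabW.pow 2) (.cons tab_x41.tabW (.cons (tab_gen Gen.b).tabW (.cons (tab_gen Gen.d).tabW (.cons (tab_gen Gen.g).tabW (.cons (tab_gen Gen.b).tabW (.cons (tab_gen Gen.c).tabW (.cons (tab_gen Gen.d).tabW (.cons (tab_gen Gen.b).tabW (.cons (tab_gen Gen.f).tabW (.cons (tab_gen Gen.a).tabW (.cons (tab_gen Gen.b).tabW .nil))))))))))))))))))))))))))))))))))))))))))))))))) (by decide +kernel)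

noncomputable def x1229 : ↥Gh :=
  [tt, x1228].prod
theorem tab_x1229 : Tab x1229 Tx1229 :=
  Tab.of_tabW (tabW_prodW (.cons tab_tt.tabW (.cons tab_x1228.tabW .nil))) (by decide +kernel)

noncomputable def ct : ↥Gh :=
  [x1229 ^ 2, (gen Gen.b), (gen Gen.a), (gen Gen.f), (gen Gen.b), (gen Gen.d), (gen Gen.c), (gen Gen.b), (gen Gen.g), (gen Gen.d), (gen Gen.b)].prod
theorem tab_ct : Tab ct Tct :=
  Tab.of_tabW (tabW_prodW (.cons (tab_x1229.tabW.pow 2) (.cons (tab_gen Gen.b).tabW (.cons (tab_gen Gen.a).tabW (.cons (tab_gen Gen.f).tabW (.cons (tab_gen Gen.b).tabW (.cons (tab_gen Gen.d).tabW (.cons (tab_gen Gen.c).tabW (.cons (tab_gen Gen.b).tabW (.cons (tab_gen Gen.g).tabW (.cons (tab_gen Gen.d).tabW (.cons (tab_gen Gen.b).tabW .nil)))))))))))) (by decide +kernel)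

noncomputable def x1274 : ↥Gh :=
  [(gen Gen.g), (gen Gen.c), (gen Gen.f), (gen Gen.e), (gen Gen.f), (gen Gen.a), x41, x43 ^ 3, x36 ^ 2, x31 ^ 3, (gen Gen.g), (gen Gen.f), (gen Gen.b), (gen Gen.c), (gen Gen.e), (gen Gen.d), (gen Gen.g), (gen Gen.e), (gen Gen.d), (gen Gen.e), (gen Gen.g), (gen Gen.a), (gen Gen.d), (gen Gen.b), (gen Gen.f), (gen Gen.g), (gen Gen.d), (gen Gen.f), x10 ^ 2, x36 ^ 2, x12 ^ 2, (gen Gen.d), x12 ^ 2, n2, (gen Gen.a), (gen Gen.f), (gen Gen.e), (gen Gen.f), (gen Gen.c), (gen Gen.g)].prod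
theorem tab_x1274 : Tab x1274 Tx1274 :=
  Tab.of_tabW (tabW_prodW (.cons (tab_gen Gen.g).tabW (.cons (tab_gen Gen.c).tabW (.cons (tab_gen Gen.f).tabW (.cons (tab_gen Gen.e).tabW (.cons (tab_gen Gen.f).tabW (.cons (tab_gen Gen.a).tabW (.cons tab_x41.tabW (.cons (tab_x43.tabW.pow 3) (.cons (tab_x36.tabW.pow 2) (.cons (tab_x31.tabW.pow 3) (.cons (tab_gen Gen.g).tabW (.cons (tab_gen Gen.f).tabW (.cons (tab_gen Gen.b).tabW (.cons (tab_gen Gen.c).tabW (.cons (tab_gen Gen.e).tabW (.cons (tab_gen Gen.d).tabW (.cons (tab_gen Gen.g).tabW (.cons (tab_gen Gen.e).tabW (.cons (tab_gen Gen.d).tabW (.cons (tab_gen Gen.e).tabW (.cons (tab_gen Gen.g).tabW (.cons (tab_gen Gen.a).tabW (.cons (tab_gen Gen.d).tabW (.cons (tab_gen Gen.b).tabW (.cons (tab_gen Gen.f).tabW (.cons (tab_gen Gen.g).tabW (.cons (tab_gen Gen.d).tabW (.cons (tab_gen Gen.f).tabW (.cons (tab_x10.tabW.pow 2) (.cons (tab_x36.tabW.pow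 2) (.cons (tab_x12.tabW.pow 2) (.cons (tab_gen Gen.d).tabW (.cons (tab_x12.tabW.pow 2) (.cons tab_n2.tabW (.cons (tab_gen Gen.a).tabW (.cons (tab_gen Gen.f).tabW (.cons (tab_gen Gen.e).tabW (.cons (tab_gen Gen.f).tabW (.cons (tab_gen Gen.c).tabW (.cons (tab_gen Gen.g).tabW .nil))))))))))))))))))))))))))))))))))))))))) (by decide +kernel)

noncomputable def x1275 : ↥Gh :=
  [vv, x1274].prod
theorem tab_x1275 : Tab x1275 Tx1275 :=
  Tab.of_tabW (tabW_prodW (.cons tab_vv.tabW (.cons tab_x1274.tabW .nil))) (by decide +kernel)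

noncomputable def cv : ↥Gh :=
  [x1275 ^ 2, (gen Gen.g), (gen Gen.c), (gen Gen.f), (gen Gen.e), (gen Gen.f), (gen Gen.a)].prod
theorem tab_cv : Tab cv Tcv :=
  Tab.of_tabW (tabW_prodW (.cons (tab_x1275.tabW.pow 2) (.cons (tab_gen Gen.g).tabW (.cons (tab_gen Gen.c).tabW (.cons (tab_gen Gen.f).tabW (.cons (tab_gen Gen.e).tabW (.cons (tab_gen Gen.f).tabW (.cons (tab_gen Gen.a).tabW .nil)))))))) (by decide +kernel)

noncomputable def x1279 : ↥Gh :=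
  [(gen Gen.e), (gen Gen.f), (gen Gen.c), (gen Gen.g), (gen Gen.d), (gen Gen.c), (gen Gen.g), (gen Gen.f), x41, x43 ^ 3, x42 ^ 2, x36 ^ 2, x31 ^ 3, (gen Gen.g), (gen Gen.f), (gen Gen.b), (gen Gen.c), (gen Gen.e), (gen Gen.d), (gen Gen.g), (gen Gen.e), (gen Gen.d), (gen Gen.e), (gen Gen.g), (gen Gen.a), (gen Gen.d), (gen Gen.b), (gen Gen.f), (gen Gen.g), (gen Gen.d), (gen Gen.f), x10 ^ 2, x36 ^ 2, x12 ^ 2, (gen Gen.d), x12 ^ 2, (gen Gen.f), (gen Gen.g), (gen Gen.c), (gen Gen.d), (gen Gen.g), (gen Gen.c), (gen Gen.f), (gen Gen.e)].prod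
theorem tab_x1279 : Tab x1279 Tx1279 :=
  Tab.of_tabW (tabW_prodW (.cons (tab_gen Gen.e).tabW (.cons (tab_gen Gen.f).tabW (.cons (tab_gen Gen.c).tabW (.cons (tab_gen Gen.g).tabW (.cons (tab_gen Gen.d).tabW (.cons (tab_gen Gen.c).tabW (.cons (tab_gen Gen.g).tabW (.cons (tab_gen Gen.f).tabW (.cons tab_x41.tabW (.cons (tab_x43.tabW.pow 3) (.cons (tab_x42.tabW.pow 2) (.cons (tab_x36.tabW.pow 2) (.cons (tab_x31.tabW.pow 3) (.cons (tab_gen Gen.g).tabW (.cons (tab_gen Gen.f).tabW (.cons (tab_gen Gen.b).tabW (.cons (tab_gen Gen.c).tabW (.cons (tab_gen Gen.e).tabW (.cons (tab_gen Gen.d).tabW (.cons (tab_gen Gen.g).tabW (.cons (tab_gen Gen.e).tabW (.cons (tab_gen Gen.d).tabW (.cons (tab_gen Gen.e).tabW (.cons (tab_gen Gen.g).tabW (.cons (tab_gen Gen.a).tabW (.cons (tab_gen Gen.d).tabW (.cons (tab_gen Gen.b).tabW (.cons (tab_gen Gen.f).tabW (.cons (tab_gen Gen.g).tabW (.cons (tab_gen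 Gen.d).tabW (.cons (tab_gen Gen.f).tabW (.cons (tab_x10.tabW.pow 2) (.cons (tab_x36.tabW.pow 2) (.cons (tab_x12.tabW.pow 2) (.cons (tab_gen Gen.d).tabW (.cons (tab_x12.tabW.pow 2) (.cons (tab_gen Gen.f).tabW (.cons (tab_gen Gen.g).tabW (.cons (tab_gen Gen.c).tabW (.cons (tab_gen Gen.d).tabW (.cons (tab_gen Gen.g).tabW (.cons (tab_gen Gen.c).tabW (.cons (tab_gen Gen.f).tabW (.cons (tab_gen Gen.e).tabW .nil))))))))))))))))))))))))))))))))))))))))))))) (by decide +kernel)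

noncomputable def x1280 : ↥Gh :=
  [x41, x938, x1279].prod
theorem tab_x1280 : Tab x1280 Tx1280 :=
  Tab.of_tabW (tabW_prodW (.cons tab_x41.tabW (.cons tab_x938.tabW (.cons tab_x1279.tabW .nil)))) (by decide +kernel)

noncomputable def cu : ↥Gh :=
  [x1280 ^ 2, (gen Gen.e), (gen Gen.f), (gen Gen.c), (gen Gen.g), (gen Gen.d), (gen Gen.c), (gen Gen.g), (gen Gen.f)].prod
theorem tab_cu : Tab cu Tcu :=
  Tab.of_tabW (tabW_prodW (.cons (tab_x1280.tabW.pow 2) (.cons (tab_gen Gen.e).tabW (.cons (tab_gen Gen.f).tabW (.cons (tab_gen Gen.c).tabW (.cons (tab_gen Gen.g).tabW (.cons (tab_gen Gen.d).tabW (.cons (tab_gen Gen.c).tabW (.cons (tab_gen Gen.g).tabW (.cons (tab_gen Gen.f).tabW .nil)))))))))) (by decide +kernel)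

noncomputable def x1299 : ↥Gh :=
  [(gen Gen.a), (gen Gen.b), (gen Gen.e), (gen Gen.d), (gen Gen.e), (gen Gen.f), (gen Gen.b), (gen Gen.g), (gen Gen.f), (gen Gen.b), (gen Gen.f), x41, x43 ^ 3, x42 ^ 2, x36 ^ 2, x31 ^ 3, (gen Gen.g), (gen Gen.f), (gen Gen.b), (gen Gen.c), (gen Gen.e), (gen Gen.d), (gen Gen.g), (gen Gen.e), (gen Gen.d), (gen Gen.e), (gen Gen.g), (gen Gen.a), (gen Gen.d), (gen Gen.b), (gen Gen.f), (gen Gen.g), (gen Gen.d), (gen Gen.f), x10 ^ 2, x36 ^ 2, x12 ^ 2, (gen Gen.d), x12 ^ 2, (gen Gen.f), (gen Gen.b), (gen Gen.f), (gen Gen.g), (gen Gen.b), (gen Gen.f), (gen Gen.e), (gen Gen.d), (gen Gen.e), (gen Gen.b), (gen Gen.a)].prod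
theorem tab_x1299 : Tab x1299 Tx1299 :=
  Tab.of_tabW (tabW_prodW (.cons (tab_gen Gen.a).tabW (.cons (tab_gen Gen.b).tabW (.cons (tab_gen Gen.e).tabW (.cons (tab_gen Gen.d).tabW (.cons (tab_gen Gen.e).tabW (.cons (tab_gen Gen.f).tabW (.cons (tab_gen Gen.b).tabW (.cons (tab_gen Gen.g).tabW (.cons (tab_gen Gen.f).tabW (.cons (tab_gen Gen.b).tabW (.cons (tab_gen Gen.f).tabW (.cons tab_x41.tabW (.cons (tab_x43.tabW.pow 3) (.cons (tab_x42.tabW.pow 2) (.cons (tab_x36.tabW.pow 2) (.cons (tab_x31.tabW.pow 3) (.cons (tab_gen Gen.g).tabW (.cons (tab_gen Gen.f).tabW (.cons (tab_gen Gen.b).tabW (.cons (tab_gen Gen.c).tabW (.cons (tab_gen Gen.e).tabW (.cons (tab_gen Gen.d).tabW (.cons (tab_gen Gen.g).tabW (.cons (tab_gen Gen.e).tabW (.cons (tab_gen Gen.d).tabW (.cons (tab_gen Gen.e).tabW (.cons (tab_gen Gen.g).tabW (.cons (tab_gen Gen.a).tabW (.cons (tab_gen Gen.d).tabW (.cons (tab_gen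 Gen.b).tabW (.cons (tab_gen Gen.f).tabW (.cons (tab_gen Gen.g).tabW (.cons (tab_gen Gen.d).tabW (.cons (tab_gen Gen.f).tabW (.cons (tab_x10.tabW.pow 2) (.cons (tab_x36.tabW.pow 2) (.cons (tab_x12.tabW.pow 2) (.cons (tab_gen Gen.d).tabW (.cons (tab_x12.tabW.pow 2) (.cons (tab_gen Gen.f).tabW (.cons (tab_gen Gen.b).tabW (.cons (tab_gen Gen.f).tabW (.cons (tab_gen Gen.g).tabW (.cons (tab_gen Gen.b).tabW (.cons (tab_gen Gen.f).tabW (.cons (tab_gen Gen.e).tabW (.cons (tab_gen Gen.d).tabW (.cons (tab_gen Gen.e).tabW (.cons (tab_gen Gen.b).tabW (.cons (tab_gen Gen.a).tabW .nil))))))))))))))))))))))))))))))))))))))))))))))))))) (by decide +kernel)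

noncomputable def x1300 : ↥Gh :=
  [x42 ^ 2, x274, x1092 ^ 2, n2, (gen Gen.e), (gen Gen.a), (gen Gen.d), (gen Gen.c), (gen Gen.d), (gen Gen.c), (gen Gen.f), (gen Gen.d), (gen Gen.f), (gen Gen.d), (gen Gen.c), (gen Gen.e), (gen Gen.c), (gen Gen.f), (gen Gen.a), (gen Gen.g), n2, (gen Gen.g), (gen Gen.a), (gen Gen.f), (gen Gen.c), (gen Gen.e), (gen Gen.c), (gen Gen.d), (gen Gen.f), (gen Gen.d), (gen Gen.f), (gen Gen.c), (gen Gen.d), (gen Gen.c), (gen Gen.d), (gen Gen.a), (gen Gen.e), x1299].prod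
theorem tab_x1300 : Tab x1300 Tx1300 :=
  Tab.of_tabW (tabW_prodW (.cons (tab_x42.tabW.pow 2) (.cons tab_x274.tabW (.cons (tab_x1092.tabW.pow 2) (.cons tab_n2.tabW (.cons (tab_gen Gen.e).tabW (.cons (tab_gen Gen.a).tabW (.cons (tab_gen Gen.d).tabW (.cons (tab_gen Gen.c).tabW (.cons (tab_gen Gen.d).tabW (.cons (tab_gen Gen.c).tabW (.cons (tab_gen Gen.f).tabW (.cons (tab_gen Gen.d).tabW (.cons (tab_gen Gen.f).tabW (.cons (tab_gen Gen.d).tabW (.cons (tab_gen Gen.c).tabW (.cons (tab_gen Gen.e).tabW (.cons (tab_gen Gen.c).tabW (.cons (tab_gen Gen.f).tabW (.cons (tab_gen Gen.a).tabW (.cons (tab_gen Gen.g).tabW (.cons tab_n2.tabW (.cons (tab_gen Gen.g).tabW (.cons (tab_gen Gen.a).tabW (.cons (tab_gen Gen.f).tabW (.cons (tab_gen Gen.c).tabW (.cons (tab_gen Gen.e).tabW (.cons (tab_gen Gen.c).tabW (.cons (tab_gen Gen.d).tabW (.cons (tab_gen Gen.f).tabW (.cons (tab_gen Gen.d).tabW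 (.cons (tab_gen Gen.f).tabW (.cons (tab_gen Gen.c).tabW (.cons (tab_gen Gen.d).tabW (.cons (tab_gen Gen.c).tabW (.cons (tab_gen Gen.d).tabW (.cons (tab_gen Gen.a).tabW (.cons (tab_gen Gen.e).tabW (.cons tab_x1299.tabW .nil))))))))))))))))))))))))))))))))))))))) (by decide +kernel)

noncomputable def csv : ↥Gh :=
  [x1300 ^ 3, (gen Gen.a), (gen Gen.b), (gen Gen.e), (gen Gen.d), (gen Gen.e), (gen Gen.f), (gen Gen.b), (gen Gen.g), (gen Gen.f), (gen Gen.b), (gen Gen.f)].prod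
theorem tab_csv : Tab csv Tcsv :=
  Tab.of_tabW (tabW_prodW (.cons (tab_x1300.tabW.pow 3) (.cons (tab_gen Gen.a).tabW (.cons (tab_gen Gen.b).tabW (.cons (tab_gen Gen.e).tabW (.cons (tab_gen Gen.d).tabW (.cons (tab_gen Gen.e).tabW (.cons (tab_gen Gen.f).tabW (.cons (tab_gen Gen.b).tabW (.cons (tab_gen Gen.g).tabW (.cons (tab_gen Gen.f).tabW (.cons (tab_gen Gen.b).tabW (.cons (tab_gen Gen.f).tabW .nil))))))))))))) (by decide +kernel)

noncomputable def x1310 : ↥Gh :=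
  [x312, (gen Gen.c), (gen Gen.d), (gen Gen.c), (gen Gen.g), (gen Gen.d), (gen Gen.g), x42 ^ 2, n2, (gen Gen.g), (gen Gen.d), (gen Gen.g), (gen Gen.c), (gen Gen.d), (gen Gen.c)].prod
theorem tab_x1310 : Tab x1310 Tx1310 :=
  Tab.of_tabW (tabW_prodW (.cons tab_x312.tabW (.cons (tab_gen Gen.c).tabW (.cons (tab_gen Gen.d).tabW (.cons (tab_gen Gen.c).tabW (.cons (tab_gen Gen.g).tabW (.cons (tab_gen Gen.d).tabW (.cons (tab_gen Gen.g).tabW (.cons (tab_x42.tabW.pow 2) (.cons tab_n2.tabW (.cons (tab_gen Gen.g).tabW (.cons (tab_gen Gen.d).tabW (.cons (tab_gen Gen.g).tabW (.cons (tab_gen Gen.c).tabW (.cons (tab_gen Gen.d).tabW (.cons (tab_gen Gen.c).tabW .nil)))))))))))))))) (by decide +kernel)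

noncomputable def ctv : ↥Gh :=
  [x1310 ^ 9, (gen Gen.c), (gen Gen.d), (gen Gen.c), (gen Gen.g), (gen Gen.d), (gen Gen.g)].prod
theorem tab_ctv : Tab ctv Tctv :=
  Tab.of_tabW (tabW_prodW (.cons (tab_x1310.tabW.pow 9) (.cons (tab_gen Gen.c).tabW (.cons (tab_gen Gen.d).tabW (.cons (tab_gen Gen.c).tabW (.cons (tab_gen Gen.g).tabW (.cons (tab_gen Gen.d).tabW (.cons (tab_gen Gen.g).tabW .nil)))))))) (by decide +kernel)

noncomputable def k1 : ↥Gh :=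
  [x41, x43 ^ 3, x42, x41, x43 ^ 3, x41, x42 ^ 2, x274, x1092 ^ 2, n2, (gen Gen.e), (gen Gen.a), (gen Gen.d), (gen Gen.c), (gen Gen.d), (gen Gen.c), (gen Gen.f), (gen Gen.d), (gen Gen.f), (gen Gen.d), (gen Gen.c), (gen Gen.e), (gen Gen.c), (gen Gen.f), (gen Gen.a), (gen Gen.g), n2, (gen Gen.g), (gen Gen.a), (gen Gen.f), (gen Gen.c), (gen Gen.e), (gen Gen.c), (gen Gen.d), (gen Gen.f), (gen Gen.d), (gen Gen.f), (gen Gen.c), (gen Gen.d), (gen Gen.c), (gen Gen.d), (gen Gen.a), (gen Gen.e), vv, x1195, x41, x43 ^ 3, x42, x41, x43 ^ 3, x41 ^ 2, x43 ^ 3, x42, x41, x43 ^ 3, x41].prod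
theorem tab_k1 : Tab k1 Tk1 :=
  Tab.of_tabW (tabW_prodW (.cons tab_x41.tabW (.cons (tab_x43.tabW.pow 3) (.cons tab_x42.tabW (.cons tab_x41.tabW (.cons (tab_x43.tabW.pow 3) (.cons tab_x41.tabW (.cons (tab_x42.tabW.pow 2) (.cons tab_x274.tabW (.cons (tab_x1092.tabW.pow 2) (.cons tab_n2.tabW (.cons (tab_gen Gen.e).tabW (.cons (tab_gen Gen.a).tabW (.cons (tab_gen Gen.d).tabW (.cons (tab_gen Gen.c).tabW (.cons (tab_gen Gen.d).tabW (.cons (tab_gen Gen.c).tabW (.cons (tab_gen Gen.f).tabW (.cons (tab_gen Gen.d).tabW (.cons (tab_gen Gen.f).tabW (.cons (tab_gen Gen.d).tabW (.cons (tab_gen Gen.c).tabW (.cons (tab_gen Gen.e).tabW (.cons (tab_gen Gen.c).tabW (.cons (tab_gen Gen.f).tabW (.cons (tab_gen Gen.a).tabW (.cons (tab_gen Gen.g).tabW (.cons tab_n2.tabW (.cons (tab_gen Gen.g).tabW (.cons (tab_gen Gen.a).tabW (.cons (tab_gen Gen.f).tabW (.cons (tab_gen Gen.c).tabW (.cons (tab_gen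 Gen.e).tabW (.cons (tab_gen Gen.c).tabW (.cons (tab_gen Gen.d).tabW (.cons (tab_gen Gen.f).tabW (.cons (tab_gen Gen.d).tabW (.cons (tab_gen Gen.f).tabW (.cons (tab_gen Gen.c).tabW (.cons (tab_gen Gen.d).tabW (.cons (tab_gen Gen.c).tabW (.cons (tab_gen Gen.d).tabW (.cons (tab_gen Gen.a).tabW (.cons (tab_gen Gen.e).tabW (.cons tab_vv.tabW (.cons tab_x1195.tabW (.cons tab_x41.tabW (.cons (tab_x43.tabW.pow 3) (.cons tab_x42.tabW (.cons tab_x41.tabW (.cons (tab_x43.tabW.pow 3) (.cons (tab_x41.tabW.pow 2) (.cons (tab_x43.tabW.pow 3) (.cons tab_x42.tabW (.cons tab_x41.tabW (.cons (tab_x43.tabW.pow 3) (.cons tab_x41.tabW .nil))))))))))))))))))))))))))))))))))))))))))))))))))))))))) (by decide +kernel)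

noncomputable def k2 : ↥Gh :=
  [x41, x43 ^ 3, x42, x41, x43 ^ 3, x41, x42 ^ 2, x274, x1092 ^ 2, n2, (gen Gen.e), (gen Gen.a), (gen Gen.d), (gen Gen.c), (gen Gen.d), (gen Gen.c), (gen Gen.f), (gen Gen.d), (gen Gen.f), (gen Gen.d), (gen Gen.c), (gen Gen.e), (gen Gen.c), (gen Gen.f), (gen Gen.a), (gen Gen.g), n2, (gen Gen.g), (gen Gen.a), (gen Gen.f), (gen Gen.c), (gen Gen.e), (gen Gen.c), (gen Gen.d), (gen Gen.f), (gen Gen.d), (gen Gen.f), (gen Gen.c), (gen Gen.d), (gen Gen.c), (gen Gen.d), (gen Gen.a), (gen Gen.e), x1195, x42, x583, x42 ^ 2, x274, x1092 ^ 2, n2, (gen Gen.e), (gen Gen.a), (gen Gen.d), (gen Gen.c), (gen Gen.d), (gen Gen.c), (gen Gen.f), (gen Gen.d), (gen Gen.f), (gen Gen.d), (gen Gen.c), (gen Gen.e), (gen Gen.c), (gen Gen.f), (gen Gen.a), (gen Gen.g), n2, (gen Gen.g), (gen Gen.a), (gen Gen.f), (gen Gen.c), (gen Gen.e), (gen Gen.c), (gen Gen.d), (gen Gen.f),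 (gen Gen.d), (gen Gen.f), (gen Gen.c), (gen Gen.d), (gen Gen.c), (gen Gen.d), (gen Gen.a), (gen Gen.e)].prod
theorem tab_k2 : Tab k2 Tk2 :=
  Tab.of_tabW (tabW_prodW (.cons tab_x41.tabW (.cons (tab_x43.tabW.pow 3) (.cons tab_x42.tabW (.cons tab_x41.tabW (.cons (tab_x43.tabW.pow 3) (.cons tab_x41.tabW (.cons (tab_x42.tabW.pow 2) (.cons tab_x274.tabW (.cons (tab_x1092.tabW.pow 2) (.cons tab_n2.tabW (.cons (tab_gen Gen.e).tabW (.cons (tab_gen Gen.a).tabW (.cons (tab_gen Gen.d).tabW (.cons (tab_gen Gen.c).tabW (.cons (tab_gen Gen.d).tabW (.cons (tab_gen Gen.c).tabW (.cons (tab_gen Gen.f).tabW (.cons (tab_gen Gen.d).tabW (.cons (tab_gen Gen.f).tabW (.cons (tab_gen Gen.d).tabW (.cons (tab_gen Gen.c).tabW (.cons (tab_gen Gen.e).tabW (.cons (tab_gen Gen.c).tabW (.cons (tab_gen Gen.f).tabW (.cons (tab_gen Gen.a).tabW (.cons (tab_gen Gen.g).tabW (.cons tab_n2.tabW (.cons (tab_gen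 Gen.g).tabW (.cons (tab_gen Gen.a).tabW (.cons (tab_gen Gen.f).tabW (.cons (tab_gen Gen.c).tabW (.cons (tab_gen Gen.e).tabW (.cons (tab_gen Gen.c).tabW (.cons (tab_gen Gen.d).tabW (.cons (tab_gen Gen.f).tabW (.cons (tab_gen Gen.d).tabW (.cons (tab_gen Gen.f).tabW (.cons (tab_gen Gen.c).tabW (.cons (tab_gen Gen.d).tabW (.cons (tab_gen Gen.c).tabW (.cons (tab_gen Gen.d).tabW (.cons (tab_gen Gen.a).tabW (.cons (tab_gen Gen.e).tabW (.cons tab_x1195.tabW (.cons tab_x42.tabW (.cons tab_x583.tabW (.cons (tab_x42.tabW.pow 2) (.cons tab_x274.tabW (.cons (tab_x1092.tabW.pow 2) (.cons tab_n2.tabW (.cons (tab_gen Gen.e).tabW (.cons (tab_gen Gen.a).tabW (.cons (tab_gen Gen.d).tabW (.cons (tab_gen Gen.c).tabW (.cons (tab_gen Gen.d).tabW (.cons (tab_gen Gen.c).tabW (.cons (tab_gen Gen.f).tabW (.cons (tab_gen Gen.d).tabW (.cons (tab_gen Gen.f).tabW (.cons (tab_gen Gen.d).tabW (.cons (tab_gen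 Gen.c).tabW (.cons (tab_gen Gen.e).tabW (.cons (tab_gen Gen.c).tabW (.cons (tab_gen Gen.f).tabW (.cons (tab_gen Gen.a).tabW (.cons (tab_gen Gen.g).tabW (.cons tab_n2.tabW (.cons (tab_gen Gen.g).tabW (.cons (tab_gen Gen.a).tabW (.cons (tab_gen Gen.f).tabW (.cons (tab_gen Gen.c).tabW (.cons (tab_gen Gen.e).tabW (.cons (tab_gen Gen.c).tabW (.cons (tab_gen Gen.d).tabW (.cons (tab_gen Gen.f).tabW (.cons (tab_gen Gen.d).tabW (.cons (tab_gen Gen.f).tabW (.cons (tab_gen Gen.c).tabW (.cons (tab_gen Gen.d).tabW (.cons (tab_gen Gen.c).tabW (.cons (tab_gen Gen.d).tabW (.cons (tab_gen Gen.a).tabW (.cons (tab_gen Gen.e).tabW .nil)))))))))))))))))))))))))))))))))))))))))))))))))))))))))))))))))))))))))))))))))))) (by decide +kernel)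
theorem tabi_k2 : Tab k2⁻¹ Ik2 := tab_k2.inv (by decide +kernel)

noncomputable def t3 : ↥Gh :=
  [k1, k2 ^ 2, k1 ^ 2, k2 ^ 2, k1].prod
theorem tab_t3 : Tab t3 Tt3 :=
  Tab.of_tabW (tabW_prodW (.cons tab_k1.tabW (.cons (tab_k2.tabW.pow 2) (.cons (tab_k1.tabW.pow 2) (.cons (tab_k2.tabW.pow 2) (.cons tab_k1.tabW .nil)))))) (by decide +kernel)

noncomputable def a3 : ↥Gh :=
  [k2⁻¹ ^ 2, k1, k2, k1, k2].prod
theorem tab_a3 : Tab a3 Ta3 :=
  Tab.of_tabW (tabW_prodW (.cons (tabi_k2.tabW.pow 2) (.cons tab_k1.tabW (.cons tab_k2.tabW (.cons tab_k1.tabW (.cons tab_k2.tabW .nil)))))) (by decide +kernel)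

noncomputable def b3 : ↥Gh :=
  [k1, k2, k1, k2 ^ 2, k1, k2].prod
theorem tab_b3 : Tab b3 Tb3 :=
  Tab.of_tabW (tabW_prodW (.cons tab_k1.tabW (.cons tab_k2.tabW (.cons tab_k1.tabW (.cons (tab_k2.tabW.pow 2) (.cons tab_k1.tabW (.cons tab_k2.tabW .nil))))))) (by decide +kernel)

noncomputable def x1326 : ↥Gh :=
  [(gen Gen.d), (gen Gen.f), (gen Gen.a), (gen Gen.g), (gen Gen.c), (gen Gen.g), (gen Gen.c), (gen Gen.b), (gen Gen.c), (gen Gen.e), (gen Gen.d), (gen Gen.b), (gen Gen.c), (gen Gen.a), (gen Gen.g), (gen Gen.d), (gen Gen.c), (gen Gen.e), (gen Gen.f), (gen Gen.b), (gen Gen.e), (gen Gen.b), (gen Gen.c), (gen Gen.f), (gen Gen.a), (gen Gen.e), (gen Gen.f), (gen Gen.d), (gen Gen.e), (gen Gen.b), (gen Gen.f), (gen Gen.a), (gen Gen.b), (gen Gen.g), (gen Gen.c), (gen Gen.a), (gen Gen.d), (gen Gen.c), (gen Gen.a), (gen Gen.e), (gen Gen.f), (gen Gen.d), (gen Gen.a), (gen Gen.f),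 (gen Gen.g), (gen Gen.b), (gen Gen.g), (gen Gen.e), (gen Gen.b), (gen Gen.c), (gen Gen.a), (gen Gen.f), (gen Gen.d), (gen Gen.a), (gen Gen.f), (gen Gen.e), (gen Gen.b), (gen Gen.f), (gen Gen.d), (gen Gen.b), (gen Gen.e), (gen Gen.f), (gen Gen.g), (gen Gen.c), (gen Gen.g), (gen Gen.a), (gen Gen.b), (gen Gen.a), (gen Gen.g), (gen Gen.d), (gen Gen.b), (gen Gen.f), (gen Gen.g), (gen Gen.e), (gen Gen.f), (gen Gen.b), (gen Gen.c), (gen Gen.e), (gen Gen.d), (gen Gen.e), (gen Gen.b), (gen Gen.a), (gen Gen.b), (gen Gen.c), (gen Gen.g), (gen Gen.a), (gen Gen.b), (gen Gen.c), (gen Gen.e), (gen Gen.c), (gen Gen.b), (gen Gen.d), (gen Gen.c), (gen Gen.a), (gen Gen.f), (gen Gen.d), (gen Gen.a), (gen Gen.d), (gen Gen.g), (gen Gen.b), (gen Gen.g), (gen Gen.a), (gen Gen.g), (gen Gen.f), (gen Gen.c), (gen Gen.b), (gen Gen.f), (gen Gen.e), (gen Gen.g), (gen Gen.a), (gen Gen.d), (gen Gen.e),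 (gen Gen.a), (gen Gen.f), (gen Gen.d), (gen Gen.c), (gen Gen.g), (gen Gen.e), (gen Gen.d), (gen Gen.e), (gen Gen.b), (gen Gen.c), (gen Gen.g), (gen Gen.f), (gen Gen.a), (gen Gen.e), (gen Gen.b), (gen Gen.a), (gen Gen.d), (gen Gen.b), (gen Gen.c), (gen Gen.b), (gen Gen.c), (gen Gen.b), (gen Gen.e), (gen Gen.a), (gen Gen.e), (gen Gen.f), (gen Gen.a), (gen Gen.b), (gen Gen.a), (gen Gen.f), (gen Gen.d), (gen Gen.b), (gen Gen.g), (gen Gen.e), (gen Gen.g), (gen Gen.a), (gen Gen.c), (gen Gen.e), (gen Gen.g), (gen Gen.d), (gen Gen.a), (gen Gen.g), (gen Gen.d), (gen Gen.b), (gen Gen.a), (gen Gen.c), (gen Gen.b), (gen Gen.d), (gen Gen.b), (gen Gen.e), (gen Gen.f), (gen Gen.g), (gen Gen.e), (gen Gen.b), (gen Gen.d), (gen Gen.e), (gen Gen.f), (gen Gen.d), (gen Gen.c), (gen Gen.a), (gen Gen.f), (gen Gen.d), (gen Gen.f), (gen Gen.b), (gen Gen.f), (gen Gen.e), (gen Gen.b), (gen Gen.f),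 (gen Gen.b), (gen Gen.e), (gen Gen.b), (gen Gen.c), (gen Gen.e), (gen Gen.c), (gen Gen.b), (gen Gen.e), (gen Gen.f), (gen Gen.g), (gen Gen.f), (gen Gen.g), (gen Gen.a), (gen Gen.c), (gen Gen.g), (gen Gen.d), (gen Gen.a), (gen Gen.c), (gen Gen.g), (gen Gen.e)].prod
theorem tab_x1326 : Tab x1326 Tx1326 :=
  Tab.of_tabW (tabW_prodW (.cons (tab_gen Gen.d).tabW (.cons (tab_gen Gen.f).tabW (.cons (tab_gen Gen.a).tabW (.cons (tab_gen Gen.g).tabW (.cons (tab_gen Gen.c).tabW (.cons (tab_gen Gen.g).tabW (.cons (tab_gen Gen.c).tabW (.cons (tab_gen Gen.b).tabW (.cons (tab_gen Gen.c).tabW (.cons (tab_gen Gen.e).tabW (.cons (tab_gen Gen.d).tabW (.cons (tab_gen Gen.b).tabW (.cons (tab_gen Gen.c).tabW (.cons (tab_gen Gen.a).tabW (.cons (tab_gen Gen.g).tabW (.cons (tab_gen Gen.d).tabW (.cons (tab_gen Gen.c).tabW (.cons (tab_gen Gen.e).tabW (.cons (tab_gen Gen.f).tabW (.cons (tab_gen Gen.b).tabW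 (.cons (tab_gen Gen.e).tabW (.cons (tab_gen Gen.b).tabW (.cons (tab_gen Gen.c).tabW (.cons (tab_gen Gen.f).tabW (.cons (tab_gen Gen.a).tabW (.cons (tab_gen Gen.e).tabW (.cons (tab_gen Gen.f).tabW (.cons (tab_gen Gen.d).tabW (.cons (tab_gen Gen.e).tabW (.cons (tab_gen Gen.b).tabW (.cons (tab_gen Gen.f).tabW (.cons (tab_gen Gen.a).tabW (.cons (tab_gen Gen.b).tabW (.cons (tab_gen Gen.g).tabW (.cons (tab_gen Gen.c).tabW (.cons (tab_gen Gen.a).tabW (.cons (tab_gen Gen.d).tabW (.cons (tab_gen Gen.c).tabW (.cons (tab_gen Gen.a).tabW (.cons (tab_gen Gen.e).tabW (.cons (tab_gen Gen.f).tabW (.cons (tab_gen Gen.d).tabW (.cons (tab_gen Gen.a).tabW (.cons (tab_gen Gen.f).tabW (.cons (tab_gen Gen.g).tabW (.cons (tab_gen Gen.b).tabW (.cons (tab_gen Gen.g).tabW (.cons (tab_gen Gen.e).tabW (.cons (tab_gen Gen.b).tabW (.cons (tab_gen Gen.c).tabW (.cons (tab_gen Gen.a).tabW (.cons (tab_gen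 Gen.f).tabW (.cons (tab_gen Gen.d).tabW (.cons (tab_gen Gen.a).tabW (.cons (tab_gen Gen.f).tabW (.cons (tab_gen Gen.e).tabW (.cons (tab_gen Gen.b).tabW (.cons (tab_gen Gen.f).tabW (.cons (tab_gen Gen.d).tabW (.cons (tab_gen Gen.b).tabW (.cons (tab_gen Gen.e).tabW (.cons (tab_gen Gen.f).tabW (.cons (tab_gen Gen.g).tabW (.cons (tab_gen Gen.c).tabW (.cons (tab_gen Gen.g).tabW (.cons (tab_gen Gen.a).tabW (.cons (tab_gen Gen.b).tabW (.cons (tab_gen Gen.a).tabW (.cons (tab_gen Gen.g).tabW (.cons (tab_gen Gen.d).tabW (.cons (tab_gen Gen.b).tabW (.cons (tab_gen Gen.f).tabW (.cons (tab_gen Gen.g).tabW (.cons (tab_gen Gen.e).tabW (.cons (tab_gen Gen.f).tabW (.cons (tab_gen Gen.b).tabW (.cons (tab_gen Gen.c).tabW (.cons (tab_gen Gen.e).tabW (.cons (tab_gen Gen.d).tabW (.cons (tab_gen Gen.e).tabW (.cons (tab_gen Gen.b).tabW (.cons (tab_gen Gen.a).tabW (.cons (tab_gen Gen.b).tabW (.cons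 (tab_gen Gen.c).tabW (.cons (tab_gen Gen.g).tabW (.cons (tab_gen Gen.a).tabW (.cons (tab_gen Gen.b).tabW (.cons (tab_gen Gen.c).tabW (.cons (tab_gen Gen.e).tabW (.cons (tab_gen Gen.c).tabW (.cons (tab_gen Gen.b).tabW (.cons (tab_gen Gen.d).tabW (.cons (tab_gen Gen.c).tabW (.cons (tab_gen Gen.a).tabW (.cons (tab_gen Gen.f).tabW (.cons (tab_gen Gen.d).tabW (.cons (tab_gen Gen.a).tabW (.cons (tab_gen Gen.d).tabW (.cons (tab_gen Gen.g).tabW (.cons (tab_gen Gen.b).tabW (.cons (tab_gen Gen.g).tabW (.cons (tab_gen Gen.a).tabW (.cons (tab_gen Gen.g).tabW (.cons (tab_gen Gen.f).tabW (.cons (tab_gen Gen.c).tabW (.cons (tab_gen Gen.b).tabW (.cons (tab_gen Gen.f).tabW (.cons (tab_gen Gen.e).tabW (.cons (tab_gen Gen.g).tabW (.cons (tab_gen Gen.a).tabW (.cons (tab_gen Gen.d).tabW (.cons (tab_gen Gen.e).tabW (.cons (tab_gen Gen.a).tabW (.cons (tab_gen Gen.f).tabW (.cons (tab_gen Gen.d).tabW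 (.cons (tab_gen Gen.c).tabW (.cons (tab_gen Gen.g).tabW (.cons (tab_gen Gen.e).tabW (.cons (tab_gen Gen.d).tabW (.cons (tab_gen Gen.e).tabW (.cons (tab_gen Gen.b).tabW (.cons (tab_gen Gen.c).tabW (.cons (tab_gen Gen.g).tabW (.cons (tab_gen Gen.f).tabW (.cons (tab_gen Gen.a).tabW (.cons (tab_gen Gen.e).tabW (.cons (tab_gen Gen.b).tabW (.cons (tab_gen Gen.a).tabW (.cons (tab_gen Gen.d).tabW (.cons (tab_gen Gen.b).tabW (.cons (tab_gen Gen.c).tabW (.cons (tab_gen Gen.b).tabW (.cons (tab_gen Gen.c).tabW (.cons (tab_gen Gen.b).tabW (.cons (tab_gen Gen.e).tabW (.cons (tab_gen Gen.a).tabW (.cons (tab_gen Gen.e).tabW (.cons (tab_gen Gen.f).tabW (.cons (tab_gen Gen.a).tabW (.cons (tab_gen Gen.b).tabW (.cons (tab_gen Gen.a).tabW (.cons (tab_gen Gen.f).tabW (.cons (tab_gen Gen.d).tabW (.cons (tab_gen Gen.b).tabW (.cons (tab_gen Gen.g).tabW (.cons (tab_gen Gen.e).tabW (.cons (tab_gen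 Gen.g).tabW (.cons (tab_gen Gen.a).tabW (.cons (tab_gen Gen.c).tabW (.cons (tab_gen Gen.e).tabW (.cons (tab_gen Gen.g).tabW (.cons (tab_gen Gen.d).tabW (.cons (tab_gen Gen.a).tabW (.cons (tab_gen Gen.g).tabW (.cons (tab_gen Gen.d).tabW (.cons (tab_gen Gen.b).tabW (.cons (tab_gen Gen.a).tabW (.cons (tab_gen Gen.c).tabW (.cons (tab_gen Gen.b).tabW (.cons (tab_gen Gen.d).tabW (.cons (tab_gen Gen.b).tabW (.cons (tab_gen Gen.e).tabW (.cons (tab_gen Gen.f).tabW (.cons (tab_gen Gen.g).tabW (.cons (tab_gen Gen.e).tabW (.cons (tab_gen Gen.b).tabW (.cons (tab_gen Gen.d).tabW (.cons (tab_gen Gen.e).tabW (.cons (tab_gen Gen.f).tabW (.cons (tab_gen Gen.d).tabW (.cons (tab_gen Gen.c).tabW (.cons (tab_gen Gen.a).tabW (.cons (tab_gen Gen.f).tabW (.cons (tab_gen Gen.d).tabW (.cons (tab_gen Gen.f).tabW (.cons (tab_gen Gen.b).tabW (.cons (tab_gen Gen.f).tabW (.cons (tab_gen Gen.e).tabW (.cons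 (tab_gen Gen.b).tabW (.cons (tab_gen Gen.f).tabW (.cons (tab_gen Gen.b).tabW (.cons (tab_gen Gen.e).tabW (.cons (tab_gen Gen.b).tabW (.cons (tab_gen Gen.c).tabW (.cons (tab_gen Gen.e).tabW (.cons (tab_gen Gen.c).tabW (.cons (tab_gen Gen.b).tabW (.cons (tab_gen Gen.e).tabW (.cons (tab_gen Gen.f).tabW (.cons (tab_gen Gen.g).tabW (.cons (tab_gen Gen.f).tabW (.cons (tab_gen Gen.g).tabW (.cons (tab_gen Gen.a).tabW (.cons (tab_gen Gen.c).tabW (.cons (tab_gen Gen.g).tabW (.cons (tab_gen Gen.d).tabW (.cons (tab_gen Gen.a).tabW (.cons (tab_gen Gen.c).tabW (.cons (tab_gen Gen.g).tabW (.cons (tab_gen Gen.e).tabW .nil))))))))))))))))))))))))))))))))))))))))))))))))))))))))))))))))))))))))))))))))))))))))))))))))))))))))))))))))))))))))))))))))))))))))))))))))))))))))))))))))))))))))))))))))))))))))))))))))))))))))) (by decide +kernel)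
theorem tabi_x1326 : Tab x1326⁻¹ Ix1326 := tab_x1326.inv (by decide +kernel)

end Cfsg.Agent.Lib.Helper8.HeTab
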