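import Cfsg.Agent.Lib.Helper8.HeElts.E2

/- elements of He as straight-line products with their packed tables (helper8, generated) -/
set_option autoImplicit false
set_option maxRecDepth 8000

namespace Cfsg.Agent.Lib.Helper8.HeTab

open Cfsg.Spor.He (Gen)
open Cfsg.Agent.Lib.Helper28 Cfsg.Agent.Lib.Helper28.TC Cfsg.Agent.Lib.Helper28.He2058
open Cfsg.Agent.Lib.Helper56.HePerm

noncomputable def x1327 : ↥Gh :=
  [(gen Gen.e), (gen Gen.a), (gen Gen.f), (gen Gen.g), (gen Gen.a), (gen Gen.b), (gen Gen.c), (gen Gen.f), (gen Gen.a), (gen Gen.c), (gen Gen.f), (gen Gen.d), (gen Gen.f), (gen Gen.c), (gen Gen.d), (gen Gen.c), (gen Gen.d), (gen Gen.e), (gen Gen.c), (gen Gen.f), (gen Gen.d), (gen Gen.a), (gen Gen.c), (gen Gen.d), (gen Gen.a), (gen Gen.b), (gen Gen.c), (gen Gen.b), (gen Gen.a), (gen Gen.f), (gen Gen.g), (gen Gen.a), (gen Gen.e), (gen Gen.g), (gen Gen.b), (gen Gen.g), (gen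 Gen.d), (gen Gen.b), (gen Gen.c), (gen Gen.b), (gen Gen.c), (gen Gen.f), (gen Gen.c), (gen Gen.g), (gen Gen.d), (gen Gen.a), (gen Gen.e), (gen Gen.c), (gen Gen.g), (gen Gen.a), (gen Gen.d), (gen Gen.b), (gen Gen.a), (gen Gen.b), (gen Gen.g), (gen Gen.c), (gen Gen.b), (gen Gen.c), (gen Gen.d), (gen Gen.b), (gen Gen.a), (gen Gen.b), (gen Gen.a), (gen Gen.e), (gen Gen.a), (gen Gen.g), (gen Gen.c), (gen Gen.d), (gen Gen.c), (gen Gen.g), (gen Gen.a), (gen Gen.b), (gen Gen.a), (gen Gen.d), (gen Gen.b), (gen Gen.e), (gen Gen.b), (gen Gen.c), (gen Gen.e), (gen Gen.c), (gen Gen.b), (gen Gen.f), (gen Gen.c), (gen Gen.a), (gen Gen.g), (gen Gen.a), (gen Gen.e), (gen Gen.b), (gen Gen.e), (gen Gen.f), (gen Gen.d), (gen Gen.e), (gen Gen.a), (gen Gen.g), (gen Gen.e), (gen Gen.b), (gen Gen.e), (gen Gen.c), (gen Gen.e), (gen Gen.g), (gen Gen.b), (gen Gen.d), (gen Gen.a), (gen Gen.c), (gen Gen.f),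 (gen Gen.a), (gen Gen.g), (gen Gen.d), (gen Gen.c), (gen Gen.f), (gen Gen.g), (gen Gen.e), (gen Gen.f), (gen Gen.e), (gen Gen.a), (gen Gen.c), (gen Gen.d), (gen Gen.a), (gen Gen.c), (gen Gen.d), (gen Gen.g), (gen Gen.c), (gen Gen.b), (gen Gen.d), (gen Gen.e), (gen Gen.a), (gen Gen.e), (gen Gen.a), (gen Gen.d), (gen Gen.a), (gen Gen.e), (gen Gen.b), (gen Gen.a), (gen Gen.c), (gen Gen.g), (gen Gen.b), (gen Gen.e), (gen Gen.a), (gen Gen.d), (gen Gen.a), (gen Gen.d), (gen Gen.b), (gen Gen.c), (gen Gen.f), (gen Gen.g), (gen Gen.b), (gen Gen.d), (gen Gen.e), (gen Gen.b), (gen Gen.f), (gen Gen.d), (gen Gen.b), (gen Gen.e), (gen Gen.f), (gen Gen.b), (gen Gen.f), (gen Gen.d), (gen Gen.g), (gen Gen.a), (gen Gen.f), (gen Gen.b), (gen Gen.a), (gen Gen.g), (gen Gen.a), (gen Gen.e), (gen Gen.g), (gen Gen.a), (gen Gen.c), (gen Gen.e), (gen Gen.b), (gen Gen.c), (gen Gen.b), (gen Gen.d), (gen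 Gen.c), (gen Gen.f), (gen Gen.d), (gen Gen.f), (gen Gen.d), (gen Gen.e), (gen Gen.b), (gen Gen.f), (gen Gen.d), (gen Gen.g), (gen Gen.e), (gen Gen.a), (gen Gen.e), (gen Gen.a), (gen Gen.e), (gen Gen.f), (gen Gen.c), (gen Gen.b), (gen Gen.d), (gen Gen.f), (gen Gen.a), (gen Gen.d), (gen Gen.a), (gen Gen.c), (gen Gen.b), (gen Gen.d), (gen Gen.c)].prod
theorem tab_x1327 : Tab x1327 Tx1327 :=
  Tab.of_tabW (tabW_prodW (.cons (tab_gen Gen.e).tabW (.cons (tab_gen Gen.a).tabW (.cons (tab_gen Gen.f).tabW (.cons (tab_gen Gen.g).tabW (.cons (tab_gen Gen.a).tabW (.cons (tab_gen Gen.b).tabW (.cons (tab_gen Gen.c).tabW (.cons (tab_gen Gen.f).tabW (.cons (tab_gen Gen.a).tabW (.cons (tab_gen Gen.c).tabW (.cons (tab_gen Gen.f).tabW (.cons (tab_gen Gen.d).tabW (.cons (tab_gen Gen.f).tabW (.cons (tab_gen Gen.c).tabW (.cons (tab_gen Gen.d).tabW (.cons (tab_gen Gen.c).tabW (.cons (tab_gen Gen.d).tabW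 (.cons (tab_gen Gen.e).tabW (.cons (tab_gen Gen.c).tabW (.cons (tab_gen Gen.f).tabW (.cons (tab_gen Gen.d).tabW (.cons (tab_gen Gen.a).tabW (.cons (tab_gen Gen.c).tabW (.cons (tab_gen Gen.d).tabW (.cons (tab_gen Gen.a).tabW (.cons (tab_gen Gen.b).tabW (.cons (tab_gen Gen.c).tabW (.cons (tab_gen Gen.b).tabW (.cons (tab_gen Gen.a).tabW (.cons (tab_gen Gen.f).tabW (.cons (tab_gen Gen.g).tabW (.cons (tab_gen Gen.a).tabW (.cons (tab_gen Gen.e).tabW (.cons (tab_gen Gen.g).tabW (.cons (tab_gen Gen.b).tabW (.cons (tab_gen Gen.g).tabW (.cons (tab_gen Gen.d).tabW (.cons (tab_gen Gen.b).tabW (.cons (tab_gen Gen.c).tabW (.cons (tab_gen Gen.b).tabW (.cons (tab_gen Gen.c).tabW (.cons (tab_gen Gen.f).tabW (.cons (tab_gen Gen.c).tabW (.cons (tab_gen Gen.g).tabW (.cons (tab_gen Gen.d).tabW (.cons (tab_gen Gen.a).tabW (.cons (tab_gen Gen.e).tabW (.cons (tab_gen Gen.c).tabW (.cons (tab_gen Gen.g).tabW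 (.cons (tab_gen Gen.a).tabW (.cons (tab_gen Gen.d).tabW (.cons (tab_gen Gen.b).tabW (.cons (tab_gen Gen.a).tabW (.cons (tab_gen Gen.b).tabW (.cons (tab_gen Gen.g).tabW (.cons (tab_gen Gen.c).tabW (.cons (tab_gen Gen.b).tabW (.cons (tab_gen Gen.c).tabW (.cons (tab_gen Gen.d).tabW (.cons (tab_gen Gen.b).tabW (.cons (tab_gen Gen.a).tabW (.cons (tab_gen Gen.b).tabW (.cons (tab_gen Gen.a).tabW (.cons (tab_gen Gen.e).tabW (.cons (tab_gen Gen.a).tabW (.cons (tab_gen Gen.g).tabW (.cons (tab_gen Gen.c).tabW (.cons (tab_gen Gen.d).tabW (.cons (tab_gen Gen.c).tabW (.cons (tab_gen Gen.g).tabW (.cons (tab_gen Gen.a).tabW (.cons (tab_gen Gen.b).tabW (.cons (tab_gen Gen.a).tabW (.cons (tab_gen Gen.d).tabW (.cons (tab_gen Gen.b).tabW (.cons (tab_gen Gen.e).tabW (.cons (tab_gen Gen.b).tabW (.cons (tab_gen Gen.c).tabW (.cons (tab_gen Gen.e).tabW (.cons (tab_gen Gen.c).tabW (.cons (tab_gen Gen.b).tabW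 (.cons (tab_gen Gen.f).tabW (.cons (tab_gen Gen.c).tabW (.cons (tab_gen Gen.a).tabW (.cons (tab_gen Gen.g).tabW (.cons (tab_gen Gen.a).tabW (.cons (tab_gen Gen.e).tabW (.cons (tab_gen Gen.b).tabW (.cons (tab_gen Gen.e).tabW (.cons (tab_gen Gen.f).tabW (.cons (tab_gen Gen.d).tabW (.cons (tab_gen Gen.e).tabW (.cons (tab_gen Gen.a).tabW (.cons (tab_gen Gen.g).tabW (.cons (tab_gen Gen.e).tabW (.cons (tab_gen Gen.b).tabW (.cons (tab_gen Gen.e).tabW (.cons (tab_gen Gen.c).tabW (.cons (tab_gen Gen.e).tabW (.cons (tab_gen Gen.g).tabW (.cons (tab_gen Gen.b).tabW (.cons (tab_gen Gen.d).tabW (.cons (tab_gen Gen.a).tabW (.cons (tab_gen Gen.c).tabW (.cons (tab_gen Gen.f).tabW (.cons (tab_gen Gen.a).tabW (.cons (tab_gen Gen.g).tabW (.cons (tab_gen Gen.d).tabW (.cons (tab_gen Gen.c).tabW (.cons (tab_gen Gen.f).tabW (.cons (tab_gen Gen.g).tabW (.cons (tab_gen Gen.e).tabW (.cons (tab_gen Gen.f).tabW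 (.cons (tab_gen Gen.e).tabW (.cons (tab_gen Gen.a).tabW (.cons (tab_gen Gen.c).tabW (.cons (tab_gen Gen.d).tabW (.cons (tab_gen Gen.a).tabW (.cons (tab_gen Gen.c).tabW (.cons (tab_gen Gen.d).tabW (.cons (tab_gen Gen.g).tabW (.cons (tab_gen Gen.c).tabW (.cons (tab_gen Gen.b).tabW (.cons (tab_gen Gen.d).tabW (.cons (tab_gen Gen.e).tabW (.cons (tab_gen Gen.a).tabW (.cons (tab_gen Gen.e).tabW (.cons (tab_gen Gen.a).tabW (.cons (tab_gen Gen.d).tabW (.cons (tab_gen Gen.a).tabW (.cons (tab_gen Gen.e).tabW (.cons (tab_gen Gen.b).tabW (.cons (tab_gen Gen.a).tabW (.cons (tab_gen Gen.c).tabW (.cons (tab_gen Gen.g).tabW (.cons (tab_gen Gen.b).tabW (.cons (tab_gen Gen.e).tabW (.cons (tab_gen Gen.a).tabW (.cons (tab_gen Gen.d).tabW (.cons (tab_gen Gen.a).tabW (.cons (tab_gen Gen.d).tabW (.cons (tab_gen Gen.b).tabW (.cons (tab_gen Gen.c).tabW (.cons (tab_gen Gen.f).tabW (.cons (tab_gen Gen.g).tabW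 (.cons (tab_gen Gen.b).tabW (.cons (tab_gen Gen.d).tabW (.cons (tab_gen Gen.e).tabW (.cons (tab_gen Gen.b).tabW (.cons (tab_gen Gen.f).tabW (.cons (tab_gen Gen.d).tabW (.cons (tab_gen Gen.b).tabW (.cons (tab_gen Gen.e).tabW (.cons (tab_gen Gen.f).tabW (.cons (tab_gen Gen.b).tabW (.cons (tab_gen Gen.f).tabW (.cons (tab_gen Gen.d).tabW (.cons (tab_gen Gen.g).tabW (.cons (tab_gen Gen.a).tabW (.cons (tab_gen Gen.f).tabW (.cons (tab_gen Gen.b).tabW (.cons (tab_gen Gen.a).tabW (.cons (tab_gen Gen.g).tabW (.cons (tab_gen Gen.a).tabW (.cons (tab_gen Gen.e).tabW (.cons (tab_gen Gen.g).tabW (.cons (tab_gen Gen.a).tabW (.cons (tab_gen Gen.c).tabW (.cons (tab_gen Gen.e).tabW (.cons (tab_gen Gen.b).tabW (.cons (tab_gen Gen.c).tabW (.cons (tab_gen Gen.b).tabW (.cons (tab_gen Gen.d).tabW (.cons (tab_gen Gen.c).tabW (.cons (tab_gen Gen.f).tabW (.cons (tab_gen Gen.d).tabW (.cons (tab_gen Gen.f).tabW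 (.cons (tab_gen Gen.d).tabW (.cons (tab_gen Gen.e).tabW (.cons (tab_gen Gen.b).tabW (.cons (tab_gen Gen.f).tabW (.cons (tab_gen Gen.d).tabW (.cons (tab_gen Gen.g).tabW (.cons (tab_gen Gen.e).tabW (.cons (tab_gen Gen.a).tabW (.cons (tab_gen Gen.e).tabW (.cons (tab_gen Gen.a).tabW (.cons (tab_gen Gen.e).tabW (.cons (tab_gen Gen.f).tabW (.cons (tab_gen Gen.c).tabW (.cons (tab_gen Gen.b).tabW (.cons (tab_gen Gen.d).tabW (.cons (tab_gen Gen.f).tabW (.cons (tab_gen Gen.a).tabW (.cons (tab_gen Gen.d).tabW (.cons (tab_gen Gen.a).tabW (.cons (tab_gen Gen.c).tabW (.cons (tab_gen Gen.b).tabW (.cons (tab_gen Gen.d).tabW (.cons (tab_gen Gen.c).tabW .nil))))))))))))))))))))))))))))))))))))))))))))))))))))))))))))))))))))))))))))))))))))))))))))))))))))))))))))))))))))))))))))))))))))))))))))))))))))))))))))))))))))))))))))))))))))))))))))))))))))))))) (by decide +kernel)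
theorem tabi_x1327 : Tab x1327⁻¹ Ix1327 := tab_x1327.inv (by decide +kernel)

noncomputable def x1328 : ↥Gh :=
  [(gen Gen.d), (gen Gen.e), (gen Gen.a), (gen Gen.b), (gen Gen.f), (gen Gen.e), (gen Gen.d), (gen Gen.c), (gen Gen.e), (gen Gen.f), (gen Gen.g), (gen Gen.b), (gen Gen.f), (gen Gen.a), (gen Gen.e), (gen Gen.f), (gen Gen.c), (gen Gen.a), (gen Gen.g), (gen Gen.d), (gen Gen.c), (gen Gen.f), (gen Gen.b), (gen Gen.g), (gen Gen.f), (gen Gen.c), (gen Gen.a), (gen Gen.f), (gen Gen.d), (gen Gen.c), (gen Gen.b), (gen Gen.e), (gen Gen.c), (gen Gen.b), (gen Gen.a), (gen Gen.g), (gen Gen.b), (gen Gen.c), (gen Gen.e), (gen Gen.a), (gen Gen.b), (gen Gen.e), (gen Gen.g), (gen Gen.b), (gen Gen.c), (gen Gen.b), (gen Gen.g), (gen Gen.e), (gen Gen.c), (gen Gen.e), (gen Gen.c), (gen Gen.a), (gen Gen.b), (gen Gen.d), (gen Gen.f), (gen Gen.e), (gen Gen.d), (gen Gen.g), (gen Gen.f), (gen Gen.g),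 (gen Gen.d), (gen Gen.e), (gen Gen.c), (gen Gen.e), (gen Gen.c), (gen Gen.e), (gen Gen.a), (gen Gen.f), (gen Gen.d), (gen Gen.g), (gen Gen.f), (gen Gen.d), (gen Gen.f), (gen Gen.b), (gen Gen.d), (gen Gen.a), (gen Gen.f), (gen Gen.a), (gen Gen.f), (gen Gen.g), (gen Gen.a), (gen Gen.c), (gen Gen.f), (gen Gen.c), (gen Gen.d), (gen Gen.f), (gen Gen.d), (gen Gen.a), (gen Gen.d), (gen Gen.f), (gen Gen.a), (gen Gen.f), (gen Gen.d), (gen Gen.b), (gen Gen.e), (gen Gen.a), (gen Gen.g), (gen Gen.d), (gen Gen.b), (gen Gen.f), (gen Gen.a), (gen Gen.c), (gen Gen.b), (gen Gen.g), (gen Gen.f), (gen Gen.c), (gen Gen.b), (gen Gen.d), (gen Gen.b), (gen Gen.c), (gen Gen.f), (gen Gen.e), (gen Gen.c), (gen Gen.d), (gen Gen.a), (gen Gen.c), (gen Gen.b), (gen Gen.f), (gen Gen.e), (gen Gen.g), (gen Gen.d), (gen Gen.a), (gen Gen.c), (gen Gen.f), (gen Gen.d), (gen Gen.b), (gen Gen.e), (gen Gen.g), (gen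 Gen.c), (gen Gen.g), (gen Gen.f), (gen Gen.g), (gen Gen.e), (gen Gen.g), (gen Gen.c), (gen Gen.g), (gen Gen.e), (gen Gen.b), (gen Gen.d), (gen Gen.f), (gen Gen.a), (gen Gen.d), (gen Gen.g), (gen Gen.c), (gen Gen.b), (gen Gen.d), (gen Gen.b), (gen Gen.e), (gen Gen.c), (gen Gen.d), (gen Gen.c), (gen Gen.g), (gen Gen.e), (gen Gen.b), (gen Gen.d), (gen Gen.c), (gen Gen.a), (gen Gen.b), (gen Gen.e), (gen Gen.a), (gen Gen.g), (gen Gen.f), (gen Gen.g), (gen Gen.a), (gen Gen.g), (gen Gen.d), (gen Gen.b), (gen Gen.c), (gen Gen.a), (gen Gen.b), (gen Gen.f), (gen Gen.b), (gen Gen.a), (gen Gen.c), (gen Gen.e), (gen Gen.b), (gen Gen.f), (gen Gen.e), (gen Gen.c), (gen Gen.e), (gen Gen.c), (gen Gen.d), (gen Gen.a), (gen Gen.e), (gen Gen.a), (gen Gen.e), (gen Gen.d), (gen Gen.f), (gen Gen.c), (gen Gen.b), (gen Gen.c), (gen Gen.a), (gen Gen.b), (gen Gen.f), (gen Gen.c), (gen Gen.f), (gen Gen.a),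 (gen Gen.e), (gen Gen.b), (gen Gen.e)].prod
theorem tab_x1328 : Tab x1328 Tx1328 :=
  Tab.of_tabW (tabW_prodW (.cons (tab_gen Gen.d).tabW (.cons (tab_gen Gen.e).tabW (.cons (tab_gen Gen.a).tabW (.cons (tab_gen Gen.b).tabW (.cons (tab_gen Gen.f).tabW (.cons (tab_gen Gen.e).tabW (.cons (tab_gen Gen.d).tabW (.cons (tab_gen Gen.c).tabW (.cons (tab_gen Gen.e).tabW (.cons (tab_gen Gen.f).tabW (.cons (tab_gen Gen.g).tabW (.cons (tab_gen Gen.b).tabW (.cons (tab_gen Gen.f).tabW (.cons (tab_gen Gen.a).tabW (.cons (tab_gen Gen.e).tabW (.cons (tab_gen Gen.f).tabW (.cons (tab_gen Gen.c).tabW (.cons (tab_gen Gen.a).tabW (.cons (tab_gen Gen.g).tabW (.cons (tab_gen Gen.d).tabW (.cons (tab_gen Gen.c).tabW (.cons (tab_gen Gen.f).tabW (.cons (tab_gen Gen.b).tabW (.cons (tab_gen Gen.g).tabW (.cons (tab_gen Gen.f).tabW (.cons (tab_gen Gen.c).tabW (.cons (tab_gen Gen.a).tabW (.cons (tab_gen Gen.f).tabW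 (.cons (tab_gen Gen.d).tabW (.cons (tab_gen Gen.c).tabW (.cons (tab_gen Gen.b).tabW (.cons (tab_gen Gen.e).tabW (.cons (tab_gen Gen.c).tabW (.cons (tab_gen Gen.b).tabW (.cons (tab_gen Gen.a).tabW (.cons (tab_gen Gen.g).tabW (.cons (tab_gen Gen.b).tabW (.cons (tab_gen Gen.c).tabW (.cons (tab_gen Gen.e).tabW (.cons (tab_gen Gen.a).tabW (.cons (tab_gen Gen.b).tabW (.cons (tab_gen Gen.e).tabW (.cons (tab_gen Gen.g).tabW (.cons (tab_gen Gen.b).tabW (.cons (tab_gen Gen.c).tabW (.cons (tab_gen Gen.b).tabW (.cons (tab_gen Gen.g).tabW (.cons (tab_gen Gen.e).tabW (.cons (tab_gen Gen.c).tabW (.cons (tab_gen Gen.e).tabW (.cons (tab_gen Gen.c).tabW (.cons (tab_gen Gen.a).tabW (.cons (tab_gen Gen.b).tabW (.cons (tab_gen Gen.d).tabW (.cons (tab_gen Gen.f).tabW (.cons (tab_gen Gen.e).tabW (.cons (tab_gen Gen.d).tabW (.cons (tab_gen Gen.g).tabW (.cons (tab_gen Gen.f).tabW (.cons (tab_gen Gen.g).tabW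 (.cons (tab_gen Gen.d).tabW (.cons (tab_gen Gen.e).tabW (.cons (tab_gen Gen.c).tabW (.cons (tab_gen Gen.e).tabW (.cons (tab_gen Gen.c).tabW (.cons (tab_gen Gen.e).tabW (.cons (tab_gen Gen.a).tabW (.cons (tab_gen Gen.f).tabW (.cons (tab_gen Gen.d).tabW (.cons (tab_gen Gen.g).tabW (.cons (tab_gen Gen.f).tabW (.cons (tab_gen Gen.d).tabW (.cons (tab_gen Gen.f).tabW (.cons (tab_gen Gen.b).tabW (.cons (tab_gen Gen.d).tabW (.cons (tab_gen Gen.a).tabW (.cons (tab_gen Gen.f).tabW (.cons (tab_gen Gen.a).tabW (.cons (tab_gen Gen.f).tabW (.cons (tab_gen Gen.g).tabW (.cons (tab_gen Gen.a).tabW (.cons (tab_gen Gen.c).tabW (.cons (tab_gen Gen.f).tabW (.cons (tab_gen Gen.c).tabW (.cons (tab_gen Gen.d).tabW (.cons (tab_gen Gen.f).tabW (.cons (tab_gen Gen.d).tabW (.cons (tab_gen Gen.a).tabW (.cons (tab_gen Gen.d).tabW (.cons (tab_gen Gen.f).tabW (.cons (tab_gen Gen.a).tabW (.cons (tab_gen Gen.f).tabW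 (.cons (tab_gen Gen.d).tabW (.cons (tab_gen Gen.b).tabW (.cons (tab_gen Gen.e).tabW (.cons (tab_gen Gen.a).tabW (.cons (tab_gen Gen.g).tabW (.cons (tab_gen Gen.d).tabW (.cons (tab_gen Gen.b).tabW (.cons (tab_gen Gen.f).tabW (.cons (tab_gen Gen.a).tabW (.cons (tab_gen Gen.c).tabW (.cons (tab_gen Gen.b).tabW (.cons (tab_gen Gen.g).tabW (.cons (tab_gen Gen.f).tabW (.cons (tab_gen Gen.c).tabW (.cons (tab_gen Gen.b).tabW (.cons (tab_gen Gen.d).tabW (.cons (tab_gen Gen.b).tabW (.cons (tab_gen Gen.c).tabW (.cons (tab_gen Gen.f).tabW (.cons (tab_gen Gen.e).tabW (.cons (tab_gen Gen.c).tabW (.cons (tab_gen Gen.d).tabW (.cons (tab_gen Gen.a).tabW (.cons (tab_gen Gen.c).tabW (.cons (tab_gen Gen.b).tabW (.cons (tab_gen Gen.f).tabW (.cons (tab_gen Gen.e).tabW (.cons (tab_gen Gen.g).tabW (.cons (tab_gen Gen.d).tabW (.cons (tab_gen Gen.a).tabW (.cons (tab_gen Gen.c).tabW (.cons (tab_gen Gen.f).tabW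 (.cons (tab_gen Gen.d).tabW (.cons (tab_gen Gen.b).tabW (.cons (tab_gen Gen.e).tabW (.cons (tab_gen Gen.g).tabW (.cons (tab_gen Gen.c).tabW (.cons (tab_gen Gen.g).tabW (.cons (tab_gen Gen.f).tabW (.cons (tab_gen Gen.g).tabW (.cons (tab_gen Gen.e).tabW (.cons (tab_gen Gen.g).tabW (.cons (tab_gen Gen.c).tabW (.cons (tab_gen Gen.g).tabW (.cons (tab_gen Gen.e).tabW (.cons (tab_gen Gen.b).tabW (.cons (tab_gen Gen.d).tabW (.cons (tab_gen Gen.f).tabW (.cons (tab_gen Gen.a).tabW (.cons (tab_gen Gen.d).tabW (.cons (tab_gen Gen.g).tabW (.cons (tab_gen Gen.c).tabW (.cons (tab_gen Gen.b).tabW (.cons (tab_gen Gen.d).tabW (.cons (tab_gen Gen.b).tabW (.cons (tab_gen Gen.e).tabW (.cons (tab_gen Gen.c).tabW (.cons (tab_gen Gen.d).tabW (.cons (tab_gen Gen.c).tabW (.cons (tab_gen Gen.g).tabW (.cons (tab_gen Gen.e).tabW (.cons (tab_gen Gen.b).tabW (.cons (tab_gen Gen.d).tabW (.cons (tab_gen Gen.c).tabW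 (.cons (tab_gen Gen.a).tabW (.cons (tab_gen Gen.b).tabW (.cons (tab_gen Gen.e).tabW (.cons (tab_gen Gen.a).tabW (.cons (tab_gen Gen.g).tabW (.cons (tab_gen Gen.f).tabW (.cons (tab_gen Gen.g).tabW (.cons (tab_gen Gen.a).tabW (.cons (tab_gen Gen.g).tabW (.cons (tab_gen Gen.d).tabW (.cons (tab_gen Gen.b).tabW (.cons (tab_gen Gen.c).tabW (.cons (tab_gen Gen.a).tabW (.cons (tab_gen Gen.b).tabW (.cons (tab_gen Gen.f).tabW (.cons (tab_gen Gen.b).tabW (.cons (tab_gen Gen.a).tabW (.cons (tab_gen Gen.c).tabW (.cons (tab_gen Gen.e).tabW (.cons (tab_gen Gen.b).tabW (.cons (tab_gen Gen.f).tabW (.cons (tab_gen Gen.e).tabW (.cons (tab_gen Gen.c).tabW (.cons (tab_gen Gen.e).tabW (.cons (tab_gen Gen.c).tabW (.cons (tab_gen Gen.d).tabW (.cons (tab_gen Gen.a).tabW (.cons (tab_gen Gen.e).tabW (.cons (tab_gen Gen.a).tabW (.cons (tab_gen Gen.e).tabW (.cons (tab_gen Gen.d).tabW (.cons (tab_gen Gen.f).tabW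 (.cons (tab_gen Gen.c).tabW (.cons (tab_gen Gen.b).tabW (.cons (tab_gen Gen.c).tabW (.cons (tab_gen Gen.a).tabW (.cons (tab_gen Gen.b).tabW (.cons (tab_gen Gen.f).tabW (.cons (tab_gen Gen.c).tabW (.cons (tab_gen Gen.f).tabW (.cons (tab_gen Gen.a).tabW (.cons (tab_gen Gen.e).tabW (.cons (tab_gen Gen.b).tabW (.cons (tab_gen Gen.e).tabW .nil))))))))))))))))))))))))))))))))))))))))))))))))))))))))))))))))))))))))))))))))))))))))))))))))))))))))))))))))))))))))))))))))))))))))))))))))))))))))))))))))))))))))))))))))))))))))))))))))))))))))) (by decide +kernel)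
theorem tabi_x1328 : Tab x1328⁻¹ Ix1328 := tab_x1328.inv (by decide +kernel)

noncomputable def x1329 : ↥Gh :=
  [(gen Gen.b), (gen Gen.f), (gen Gen.c), (gen Gen.b), (gen Gen.g), (gen Gen.c), (gen Gen.a), (gen Gen.f), (gen Gen.b), (gen Gen.g), (gen Gen.f), (gen Gen.b), (gen Gen.f), (gen Gen.a), (gen Gen.g), (gen Gen.b), (gen Gen.a), (gen Gen.b), (gen Gen.d), (gen Gen.e), (gen Gen.d), (gen Gen.a), (gen Gen.b), (gen Gen.f), (gen Gen.e), (gen Gen.b), (gen Gen.d), (gen Gen.g), (gen Gen.a), (gen Gen.c), (gen Gen.f), (gen Gen.a), (gen Gen.f), (gen Gen.b), (gen Gen.a), (gen Gen.g), (gen Gen.c), (gen Gen.b), (gen Gen.c), (gen Gen.b), (gen Gen.c), (gen Gen.b), (gen Gen.e), (gen Gen.c), (gen Gen.d), (gen Gen.a), (gen Gen.c), (gen Gen.b), (gen Gen.c), (gen Gen.d), (gen Gen.e), (gen Gen.b), (gen Gen.e), (gen Gen.f), (gen Gen.b), (gen Gen.d), (gen Gen.a), (gen Gen.d), (gen Gen.b), (gen Gen.c),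 (gen Gen.b), (gen Gen.g), (gen Gen.f), (gen Gen.b), (gen Gen.e), (gen Gen.f), (gen Gen.e), (gen Gen.c), (gen Gen.f), (gen Gen.c), (gen Gen.f), (gen Gen.a), (gen Gen.e), (gen Gen.c), (gen Gen.f), (gen Gen.d), (gen Gen.e), (gen Gen.b), (gen Gen.d), (gen Gen.a), (gen Gen.f), (gen Gen.e), (gen Gen.b), (gen Gen.d), (gen Gen.g), (gen Gen.e), (gen Gen.b), (gen Gen.a), (gen Gen.f), (gen Gen.g), (gen Gen.e), (gen Gen.a), (gen Gen.g), (gen Gen.a), (gen Gen.d), (gen Gen.b), (gen Gen.g), (gen Gen.f), (gen Gen.a), (gen Gen.d), (gen Gen.f), (gen Gen.a), (gen Gen.d), (gen Gen.c), (gen Gen.b), (gen Gen.e), (gen Gen.b), (gen Gen.g), (gen Gen.f), (gen Gen.b), (gen Gen.f), (gen Gen.a), (gen Gen.d), (gen Gen.b), (gen Gen.c), (gen Gen.b), (gen Gen.g), (gen Gen.a), (gen Gen.f), (gen Gen.c), (gen Gen.f), (gen Gen.d), (gen Gen.e), (gen Gen.g), (gen Gen.f), (gen Gen.e), (gen Gen.g), (gen Gen.c), (gen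 Gen.b), (gen Gen.c), (gen Gen.d), (gen Gen.c), (gen Gen.a), (gen Gen.c), (gen Gen.f), (gen Gen.e), (gen Gen.d), (gen Gen.a), (gen Gen.d), (gen Gen.b), (gen Gen.e), (gen Gen.a), (gen Gen.c), (gen Gen.b), (gen Gen.e), (gen Gen.b), (gen Gen.g), (gen Gen.a), (gen Gen.g), (gen Gen.e), (gen Gen.g), (gen Gen.e), (gen Gen.b), (gen Gen.f), (gen Gen.a), (gen Gen.g), (gen Gen.a), (gen Gen.b), (gen Gen.a), (gen Gen.g), (gen Gen.a), (gen Gen.c), (gen Gen.a), (gen Gen.g), (gen Gen.e), (gen Gen.c), (gen Gen.g), (gen Gen.a), (gen Gen.d), (gen Gen.e), (gen Gen.b), (gen Gen.c), (gen Gen.f), (gen Gen.a), (gen Gen.f), (gen Gen.d), (gen Gen.a), (gen Gen.c), (gen Gen.d), (gen Gen.a), (gen Gen.d), (gen Gen.b), (gen Gen.d), (gen Gen.c), (gen Gen.d), (gen Gen.f), (gen Gen.b), (gen Gen.f), (gen Gen.g), (gen Gen.e), (gen Gen.d), (gen Gen.g), (gen Gen.b), (gen Gen.d), (gen Gen.g), (gen Gen.b), (gen Gen.d),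 (gen Gen.f), (gen Gen.g), (gen Gen.c)].prod
theorem tab_x1329 : Tab x1329 Tx1329 :=
  Tab.of_tabW (tabW_prodW (.cons (tab_gen Gen.b).tabW (.cons (tab_gen Gen.f).tabW (.cons (tab_gen Gen.c).tabW (.cons (tab_gen Gen.b).tabW (.cons (tab_gen Gen.g).tabW (.cons (tab_gen Gen.c).tabW (.cons (tab_gen Gen.a).tabW (.cons (tab_gen Gen.f).tabW (.cons (tab_gen Gen.b).tabW (.cons (tab_gen Gen.g).tabW (.cons (tab_gen Gen.f).tabW (.cons (tab_gen Gen.b).tabW (.cons (tab_gen Gen.f).tabW (.cons (tab_gen Gen.a).tabW (.cons (tab_gen Gen.g).tabW (.cons (tab_gen Gen.b).tabW (.cons (tab_gen Gen.a).tabW (.cons (tab_gen Gen.b).tabW (.cons (tab_gen Gen.d).tabW (.cons (tab_gen Gen.e).tabW (.cons (tab_gen Gen.d).tabW (.cons (tab_gen Gen.a).tabW (.cons (tab_gen Gen.b).tabW (.cons (tab_gen Gen.f).tabW (.cons (tab_gen Gen.e).tabW (.cons (tab_gen Gen.b).tabW (.cons (tab_gen Gen.d).tabW (.cons (tab_gen Gen.g).tabW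 (.cons (tab_gen Gen.a).tabW (.cons (tab_gen Gen.c).tabW (.cons (tab_gen Gen.f).tabW (.cons (tab_gen Gen.a).tabW (.cons (tab_gen Gen.f).tabW (.cons (tab_gen Gen.b).tabW (.cons (tab_gen Gen.a).tabW (.cons (tab_gen Gen.g).tabW (.cons (tab_gen Gen.c).tabW (.cons (tab_gen Gen.b).tabW (.cons (tab_gen Gen.c).tabW (.cons (tab_gen Gen.b).tabW (.cons (tab_gen Gen.c).tabW (.cons (tab_gen Gen.b).tabW (.cons (tab_gen Gen.e).tabW (.cons (tab_gen Gen.c).tabW (.cons (tab_gen Gen.d).tabW (.cons (tab_gen Gen.a).tabW (.cons (tab_gen Gen.c).tabW (.cons (tab_gen Gen.b).tabW (.cons (tab_gen Gen.c).tabW (.cons (tab_gen Gen.d).tabW (.cons (tab_gen Gen.e).tabW (.cons (tab_gen Gen.b).tabW (.cons (tab_gen Gen.e).tabW (.cons (tab_gen Gen.f).tabW (.cons (tab_gen Gen.b).tabW (.cons (tab_gen Gen.d).tabW (.cons (tab_gen Gen.a).tabW (.cons (tab_gen Gen.d).tabW (.cons (tab_gen Gen.b).tabW (.cons (tab_gen Gen.c).tabW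 (.cons (tab_gen Gen.b).tabW (.cons (tab_gen Gen.g).tabW (.cons (tab_gen Gen.f).tabW (.cons (tab_gen Gen.b).tabW (.cons (tab_gen Gen.e).tabW (.cons (tab_gen Gen.f).tabW (.cons (tab_gen Gen.e).tabW (.cons (tab_gen Gen.c).tabW (.cons (tab_gen Gen.f).tabW (.cons (tab_gen Gen.c).tabW (.cons (tab_gen Gen.f).tabW (.cons (tab_gen Gen.a).tabW (.cons (tab_gen Gen.e).tabW (.cons (tab_gen Gen.c).tabW (.cons (tab_gen Gen.f).tabW (.cons (tab_gen Gen.d).tabW (.cons (tab_gen Gen.e).tabW (.cons (tab_gen Gen.b).tabW (.cons (tab_gen Gen.d).tabW (.cons (tab_gen Gen.a).tabW (.cons (tab_gen Gen.f).tabW (.cons (tab_gen Gen.e).tabW (.cons (tab_gen Gen.b).tabW (.cons (tab_gen Gen.d).tabW (.cons (tab_gen Gen.g).tabW (.cons (tab_gen Gen.e).tabW (.cons (tab_gen Gen.b).tabW (.cons (tab_gen Gen.a).tabW (.cons (tab_gen Gen.f).tabW (.cons (tab_gen Gen.g).tabW (.cons (tab_gen Gen.e).tabW (.cons (tab_gen Gen.a).tabW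 (.cons (tab_gen Gen.g).tabW (.cons (tab_gen Gen.a).tabW (.cons (tab_gen Gen.d).tabW (.cons (tab_gen Gen.b).tabW (.cons (tab_gen Gen.g).tabW (.cons (tab_gen Gen.f).tabW (.cons (tab_gen Gen.a).tabW (.cons (tab_gen Gen.d).tabW (.cons (tab_gen Gen.f).tabW (.cons (tab_gen Gen.a).tabW (.cons (tab_gen Gen.d).tabW (.cons (tab_gen Gen.c).tabW (.cons (tab_gen Gen.b).tabW (.cons (tab_gen Gen.e).tabW (.cons (tab_gen Gen.b).tabW (.cons (tab_gen Gen.g).tabW (.cons (tab_gen Gen.f).tabW (.cons (tab_gen Gen.b).tabW (.cons (tab_gen Gen.f).tabW (.cons (tab_gen Gen.a).tabW (.cons (tab_gen Gen.d).tabW (.cons (tab_gen Gen.b).tabW (.cons (tab_gen Gen.c).tabW (.cons (tab_gen Gen.b).tabW (.cons (tab_gen Gen.g).tabW (.cons (tab_gen Gen.a).tabW (.cons (tab_gen Gen.f).tabW (.cons (tab_gen Gen.c).tabW (.cons (tab_gen Gen.f).tabW (.cons (tab_gen Gen.d).tabW (.cons (tab_gen Gen.e).tabW (.cons (tab_gen Gen.g).tabW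 (.cons (tab_gen Gen.f).tabW (.cons (tab_gen Gen.e).tabW (.cons (tab_gen Gen.g).tabW (.cons (tab_gen Gen.c).tabW (.cons (tab_gen Gen.b).tabW (.cons (tab_gen Gen.c).tabW (.cons (tab_gen Gen.d).tabW (.cons (tab_gen Gen.c).tabW (.cons (tab_gen Gen.a).tabW (.cons (tab_gen Gen.c).tabW (.cons (tab_gen Gen.f).tabW (.cons (tab_gen Gen.e).tabW (.cons (tab_gen Gen.d).tabW (.cons (tab_gen Gen.a).tabW (.cons (tab_gen Gen.d).tabW (.cons (tab_gen Gen.b).tabW (.cons (tab_gen Gen.e).tabW (.cons (tab_gen Gen.a).tabW (.cons (tab_gen Gen.c).tabW (.cons (tab_gen Gen.b).tabW (.cons (tab_gen Gen.e).tabW (.cons (tab_gen Gen.b).tabW (.cons (tab_gen Gen.g).tabW (.cons (tab_gen Gen.a).tabW (.cons (tab_gen Gen.g).tabW (.cons (tab_gen Gen.e).tabW (.cons (tab_gen Gen.g).tabW (.cons (tab_gen Gen.e).tabW (.cons (tab_gen Gen.b).tabW (.cons (tab_gen Gen.f).tabW (.cons (tab_gen Gen.a).tabW (.cons (tab_gen Gen.g).tabW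 (.cons (tab_gen Gen.a).tabW (.cons (tab_gen Gen.b).tabW (.cons (tab_gen Gen.a).tabW (.cons (tab_gen Gen.g).tabW (.cons (tab_gen Gen.a).tabW (.cons (tab_gen Gen.c).tabW (.cons (tab_gen Gen.a).tabW (.cons (tab_gen Gen.g).tabW (.cons (tab_gen Gen.e).tabW (.cons (tab_gen Gen.c).tabW (.cons (tab_gen Gen.g).tabW (.cons (tab_gen Gen.a).tabW (.cons (tab_gen Gen.d).tabW (.cons (tab_gen Gen.e).tabW (.cons (tab_gen Gen.b).tabW (.cons (tab_gen Gen.c).tabW (.cons (tab_gen Gen.f).tabW (.cons (tab_gen Gen.a).tabW (.cons (tab_gen Gen.f).tabW (.cons (tab_gen Gen.d).tabW (.cons (tab_gen Gen.a).tabW (.cons (tab_gen Gen.c).tabW (.cons (tab_gen Gen.d).tabW (.cons (tab_gen Gen.a).tabW (.cons (tab_gen Gen.d).tabW (.cons (tab_gen Gen.b).tabW (.cons (tab_gen Gen.d).tabW (.cons (tab_gen Gen.c).tabW (.cons (tab_gen Gen.d).tabW (.cons (tab_gen Gen.f).tabW (.cons (tab_gen Gen.b).tabW (.cons (tab_gen Gen.f).tabW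 (.cons (tab_gen Gen.g).tabW (.cons (tab_gen Gen.e).tabW (.cons (tab_gen Gen.d).tabW (.cons (tab_gen Gen.g).tabW (.cons (tab_gen Gen.b).tabW (.cons (tab_gen Gen.d).tabW (.cons (tab_gen Gen.g).tabW (.cons (tab_gen Gen.b).tabW (.cons (tab_gen Gen.d).tabW (.cons (tab_gen Gen.f).tabW (.cons (tab_gen Gen.g).tabW (.cons (tab_gen Gen.c).tabW .nil))))))))))))))))))))))))))))))))))))))))))))))))))))))))))))))))))))))))))))))))))))))))))))))))))))))))))))))))))))))))))))))))))))))))))))))))))))))))))))))))))))))))))))))))))))))))))))))))))))))))) (by decide +kernel)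
theorem tabi_x1329 : Tab x1329⁻¹ Ix1329 := tab_x1329.inv (by decide +kernel)

noncomputable def x1330 : ↥Gh :=
  [(gen Gen.f), (gen Gen.b), (gen Gen.d), (gen Gen.a), (gen Gen.d), (gen Gen.c), (gen Gen.a), (gen Gen.f), (gen Gen.d), (gen Gen.g), (gen Gen.c), (gen Gen.a), (gen Gen.e), (gen Gen.c), (gen Gen.a), (gen Gen.e), (gen Gen.b), (gen Gen.a), (gen Gen.d), (gen Gen.f), (gen Gen.c), (gen Gen.e), (gen Gen.d), (gen Gen.f), (gen Gen.b), (gen Gen.f), (gen Gen.c), (gen Gen.d), (gen Gen.a), (gen Gen.b), (gen Gen.a), (gen Gen.b), (gen Gen.d), (gen Gen.b), (gen Gen.a), (gen Gen.b), (gen Gen.f), (gen Gen.d), (gen Gen.f), (gen Gen.a), (gen Gen.b), (gen Gen.e), (gen Gen.d), (gen Gen.e), (gen Gen.c), (gen Gen.e), (gen Gen.d), (gen Gen.c), (gen Gen.d), (gen Gen.a), (gen Gen.b), (gen Gen.f), (gen Gen.a), (gen Gen.c), (gen Gen.d), (gen Gen.a), (gen Gen.c), (gen Gen.g), (gen Gen.a), (gen Gen.d),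 (gen Gen.f), (gen Gen.e), (gen Gen.g), (gen Gen.f), (gen Gen.a), (gen Gen.g), (gen Gen.e), (gen Gen.d), (gen Gen.g), (gen Gen.b), (gen Gen.a), (gen Gen.b), (gen Gen.g), (gen Gen.b), (gen Gen.d), (gen Gen.e), (gen Gen.d), (gen Gen.a), (gen Gen.c), (gen Gen.g), (gen Gen.d), (gen Gen.c), (gen Gen.g), (gen Gen.c), (gen Gen.d), (gen Gen.e), (gen Gen.d), (gen Gen.c), (gen Gen.f), (gen Gen.c), (gen Gen.d), (gen Gen.a), (gen Gen.b), (gen Gen.g), (gen Gen.b), (gen Gen.d), (gen Gen.f), (gen Gen.g), (gen Gen.e), (gen Gen.a), (gen Gen.c), (gen Gen.e), (gen Gen.c), (gen Gen.g), (gen Gen.d), (gen Gen.c), (gen Gen.e), (gen Gen.g), (gen Gen.c), (gen Gen.f), (gen Gen.g), (gen Gen.e), (gen Gen.c), (gen Gen.f), (gen Gen.b), (gen Gen.c), (gen Gen.a), (gen Gen.d), (gen Gen.g), (gen Gen.d), (gen Gen.g), (gen Gen.d), (gen Gen.f), (gen Gen.e), (gen Gen.b), (gen Gen.d), (gen Gen.b), (gen Gen.f), (gen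 Gen.g), (gen Gen.b), (gen Gen.g), (gen Gen.c), (gen Gen.d), (gen Gen.c), (gen Gen.d), (gen Gen.g), (gen Gen.d), (gen Gen.e), (gen Gen.a), (gen Gen.g), (gen Gen.a), (gen Gen.f), (gen Gen.c), (gen Gen.f), (gen Gen.d), (gen Gen.g), (gen Gen.a), (gen Gen.g), (gen Gen.f), (gen Gen.b), (gen Gen.f), (gen Gen.a), (gen Gen.b), (gen Gen.c), (gen Gen.e), (gen Gen.g), (gen Gen.f), (gen Gen.a), (gen Gen.b), (gen Gen.g), (gen Gen.a), (gen Gen.c), (gen Gen.f), (gen Gen.d), (gen Gen.e), (gen Gen.f), (gen Gen.b), (gen Gen.f), (gen Gen.g), (gen Gen.c), (gen Gen.g), (gen Gen.c), (gen Gen.d), (gen Gen.g), (gen Gen.b), (gen Gen.g), (gen Gen.b), (gen Gen.d), (gen Gen.g), (gen Gen.a), (gen Gen.b), (gen Gen.e), (gen Gen.g), (gen Gen.b), (gen Gen.g), (gen Gen.d), (gen Gen.f), (gen Gen.b), (gen Gen.g), (gen Gen.a), (gen Gen.f), (gen Gen.g), (gen Gen.d), (gen Gen.b), (gen Gen.d), (gen Gen.e), (gen Gen.f),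 (gen Gen.c), (gen Gen.e), (gen Gen.b)].prod
theorem tab_x1330 : Tab x1330 Tx1330 :=
  Tab.of_tabW (tabW_prodW (.cons (tab_gen Gen.f).tabW (.cons (tab_gen Gen.b).tabW (.cons (tab_gen Gen.d).tabW (.cons (tab_gen Gen.a).tabW (.cons (tab_gen Gen.d).tabW (.cons (tab_gen Gen.c).tabW (.cons (tab_gen Gen.a).tabW (.cons (tab_gen Gen.f).tabW (.cons (tab_gen Gen.d).tabW (.cons (tab_gen Gen.g).tabW (.cons (tab_gen Gen.c).tabW (.cons (tab_gen Gen.a).tabW (.cons (tab_gen Gen.e).tabW (.cons (tab_gen Gen.c).tabW (.cons (tab_gen Gen.a).tabW (.cons (tab_gen Gen.e).tabW (.cons (tab_gen Gen.b).tabW (.cons (tab_gen Gen.a).tabW (.cons (tab_gen Gen.d).tabW (.cons (tab_gen Gen.f).tabW (.cons (tab_gen Gen.c).tabW (.cons (tab_gen Gen.e).tabW (.cons (tab_gen Gen.d).tabW (.cons (tab_gen Gen.f).tabW (.cons (tab_gen Gen.b).tabW (.cons (tab_gen Gen.f).tabW (.cons (tab_gen Gen.c).tabW (.cons (tab_gen Gen.d).tabW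 (.cons (tab_gen Gen.a).tabW (.cons (tab_gen Gen.b).tabW (.cons (tab_gen Gen.a).tabW (.cons (tab_gen Gen.b).tabW (.cons (tab_gen Gen.d).tabW (.cons (tab_gen Gen.b).tabW (.cons (tab_gen Gen.a).tabW (.cons (tab_gen Gen.b).tabW (.cons (tab_gen Gen.f).tabW (.cons (tab_gen Gen.d).tabW (.cons (tab_gen Gen.f).tabW (.cons (tab_gen Gen.a).tabW (.cons (tab_gen Gen.b).tabW (.cons (tab_gen Gen.e).tabW (.cons (tab_gen Gen.d).tabW (.cons (tab_gen Gen.e).tabW (.cons (tab_gen Gen.c).tabW (.cons (tab_gen Gen.e).tabW (.cons (tab_gen Gen.d).tabW (.cons (tab_gen Gen.c).tabW (.cons (tab_gen Gen.d).tabW (.cons (tab_gen Gen.a).tabW (.cons (tab_gen Gen.b).tabW (.cons (tab_gen Gen.f).tabW (.cons (tab_gen Gen.a).tabW (.cons (tab_gen Gen.c).tabW (.cons (tab_gen Gen.d).tabW (.cons (tab_gen Gen.a).tabW (.cons (tab_gen Gen.c).tabW (.cons (tab_gen Gen.g).tabW (.cons (tab_gen Gen.a).tabW (.cons (tab_gen Gen.d).tabW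 (.cons (tab_gen Gen.f).tabW (.cons (tab_gen Gen.e).tabW (.cons (tab_gen Gen.g).tabW (.cons (tab_gen Gen.f).tabW (.cons (tab_gen Gen.a).tabW (.cons (tab_gen Gen.g).tabW (.cons (tab_gen Gen.e).tabW (.cons (tab_gen Gen.d).tabW (.cons (tab_gen Gen.g).tabW (.cons (tab_gen Gen.b).tabW (.cons (tab_gen Gen.a).tabW (.cons (tab_gen Gen.b).tabW (.cons (tab_gen Gen.g).tabW (.cons (tab_gen Gen.b).tabW (.cons (tab_gen Gen.d).tabW (.cons (tab_gen Gen.e).tabW (.cons (tab_gen Gen.d).tabW (.cons (tab_gen Gen.a).tabW (.cons (tab_gen Gen.c).tabW (.cons (tab_gen Gen.g).tabW (.cons (tab_gen Gen.d).tabW (.cons (tab_gen Gen.c).tabW (.cons (tab_gen Gen.g).tabW (.cons (tab_gen Gen.c).tabW (.cons (tab_gen Gen.d).tabW (.cons (tab_gen Gen.e).tabW (.cons (tab_gen Gen.d).tabW (.cons (tab_gen Gen.c).tabW (.cons (tab_gen Gen.f).tabW (.cons (tab_gen Gen.c).tabW (.cons (tab_gen Gen.d).tabW (.cons (tab_gen Gen.a).tabW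 (.cons (tab_gen Gen.b).tabW (.cons (tab_gen Gen.g).tabW (.cons (tab_gen Gen.b).tabW (.cons (tab_gen Gen.d).tabW (.cons (tab_gen Gen.f).tabW (.cons (tab_gen Gen.g).tabW (.cons (tab_gen Gen.e).tabW (.cons (tab_gen Gen.a).tabW (.cons (tab_gen Gen.c).tabW (.cons (tab_gen Gen.e).tabW (.cons (tab_gen Gen.c).tabW (.cons (tab_gen Gen.g).tabW (.cons (tab_gen Gen.d).tabW (.cons (tab_gen Gen.c).tabW (.cons (tab_gen Gen.e).tabW (.cons (tab_gen Gen.g).tabW (.cons (tab_gen Gen.c).tabW (.cons (tab_gen Gen.f).tabW (.cons (tab_gen Gen.g).tabW (.cons (tab_gen Gen.e).tabW (.cons (tab_gen Gen.c).tabW (.cons (tab_gen Gen.f).tabW (.cons (tab_gen Gen.b).tabW (.cons (tab_gen Gen.c).tabW (.cons (tab_gen Gen.a).tabW (.cons (tab_gen Gen.d).tabW (.cons (tab_gen Gen.g).tabW (.cons (tab_gen Gen.d).tabW (.cons (tab_gen Gen.g).tabW (.cons (tab_gen Gen.d).tabW (.cons (tab_gen Gen.f).tabW (.cons (tab_gen Gen.e).tabW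 (.cons (tab_gen Gen.b).tabW (.cons (tab_gen Gen.d).tabW (.cons (tab_gen Gen.b).tabW (.cons (tab_gen Gen.f).tabW (.cons (tab_gen Gen.g).tabW (.cons (tab_gen Gen.b).tabW (.cons (tab_gen Gen.g).tabW (.cons (tab_gen Gen.c).tabW (.cons (tab_gen Gen.d).tabW (.cons (tab_gen Gen.c).tabW (.cons (tab_gen Gen.d).tabW (.cons (tab_gen Gen.g).tabW (.cons (tab_gen Gen.d).tabW (.cons (tab_gen Gen.e).tabW (.cons (tab_gen Gen.a).tabW (.cons (tab_gen Gen.g).tabW (.cons (tab_gen Gen.a).tabW (.cons (tab_gen Gen.f).tabW (.cons (tab_gen Gen.c).tabW (.cons (tab_gen Gen.f).tabW (.cons (tab_gen Gen.d).tabW (.cons (tab_gen Gen.g).tabW (.cons (tab_gen Gen.a).tabW (.cons (tab_gen Gen.g).tabW (.cons (tab_gen Gen.f).tabW (.cons (tab_gen Gen.b).tabW (.cons (tab_gen Gen.f).tabW (.cons (tab_gen Gen.a).tabW (.cons (tab_gen Gen.b).tabW (.cons (tab_gen Gen.c).tabW (.cons (tab_gen Gen.e).tabW (.cons (tab_gen Gen.g).tabW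 (.cons (tab_gen Gen.f).tabW (.cons (tab_gen Gen.a).tabW (.cons (tab_gen Gen.b).tabW (.cons (tab_gen Gen.g).tabW (.cons (tab_gen Gen.a).tabW (.cons (tab_gen Gen.c).tabW (.cons (tab_gen Gen.f).tabW (.cons (tab_gen Gen.d).tabW (.cons (tab_gen Gen.e).tabW (.cons (tab_gen Gen.f).tabW (.cons (tab_gen Gen.b).tabW (.cons (tab_gen Gen.f).tabW (.cons (tab_gen Gen.g).tabW (.cons (tab_gen Gen.c).tabW (.cons (tab_gen Gen.g).tabW (.cons (tab_gen Gen.c).tabW (.cons (tab_gen Gen.d).tabW (.cons (tab_gen Gen.g).tabW (.cons (tab_gen Gen.b).tabW (.cons (tab_gen Gen.g).tabW (.cons (tab_gen Gen.b).tabW (.cons (tab_gen Gen.d).tabW (.cons (tab_gen Gen.g).tabW (.cons (tab_gen Gen.a).tabW (.cons (tab_gen Gen.b).tabW (.cons (tab_gen Gen.e).tabW (.cons (tab_gen Gen.g).tabW (.cons (tab_gen Gen.b).tabW (.cons (tab_gen Gen.g).tabW (.cons (tab_gen Gen.d).tabW (.cons (tab_gen Gen.f).tabW (.cons (tab_gen Gen.b).tabW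 (.cons (tab_gen Gen.g).tabW (.cons (tab_gen Gen.a).tabW (.cons (tab_gen Gen.f).tabW (.cons (tab_gen Gen.g).tabW (.cons (tab_gen Gen.d).tabW (.cons (tab_gen Gen.b).tabW (.cons (tab_gen Gen.d).tabW (.cons (tab_gen Gen.e).tabW (.cons (tab_gen Gen.f).tabW (.cons (tab_gen Gen.c).tabW (.cons (tab_gen Gen.e).tabW (.cons (tab_gen Gen.b).tabW .nil))))))))))))))))))))))))))))))))))))))))))))))))))))))))))))))))))))))))))))))))))))))))))))))))))))))))))))))))))))))))))))))))))))))))))))))))))))))))))))))))))))))))))))))))))))))))))))))))))))))))) (by decide +kernel)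
theorem tabi_x1330 : Tab x1330⁻¹ Ix1330 := tab_x1330.inv (by decide +kernel)

end Cfsg.Agent.Lib.Helper8.HeTab
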