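import Cfsg.Agent.Lib.Helper8.HeElts.E3

/- elements of He as straight-line products with their packed tables (helper8, generated) -/
set_option autoImplicit false
set_option maxRecDepth 8000

namespace Cfsg.Agent.Lib.Helper8.HeTab

open Cfsg.Spor.He (Gen)
open Cfsg.Agent.Lib.Helper28 Cfsg.Agent.Lib.Helper28.TC Cfsg.Agent.Lib.Helper28.He2058
open Cfsg.Agent.Lib.Helper56.HePerm

noncomputable def x1331 : ↥Gh :=
  [(gen Gen.c), (gen Gen.a), (gen Gen.b), (gen Gen.g), (gen Gen.a), (gen Gen.g), (gen Gen.f), (gen Gen.a), (gen Gen.c), (gen Gen.e), (gen Gen.d), (gen Gen.e), (gen Gen.c), (gen Gen.g), (gen Gen.f), (gen Gen.e), (gen Gen.c), (gen Gen.b), (gen Gen.d), (gen Gen.a), (gen Gen.d), (gen Gen.b), (gen Gen.d), (gen Gen.b), (gen Gen.a), (gen Gen.b), (gen Gen.f), (gen Gen.b), (gen Gen.e), (gen Gen.c), (gen Gen.a), (gen Gen.g), (gen Gen.a), (gen Gen.f), (gen Gen.c), (gen Gen.b), (gen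 Gen.c), (gen Gen.g), (gen Gen.b), (gen Gen.e), (gen Gen.g), (gen Gen.e), (gen Gen.g), (gen Gen.d), (gen Gen.g), (gen Gen.a), (gen Gen.c), (gen Gen.d), (gen Gen.c), (gen Gen.g), (gen Gen.a), (gen Gen.c), (gen Gen.g), (gen Gen.f), (gen Gen.g), (gen Gen.e), (gen Gen.f), (gen Gen.e), (gen Gen.a), (gen Gen.f), (gen Gen.c), (gen Gen.e), (gen Gen.f), (gen Gen.g), (gen Gen.b), (gen Gen.a), (gen Gen.f), (gen Gen.e), (gen Gen.b), (gen Gen.g), (gen Gen.b), (gen Gen.c), (gen Gen.f), (gen Gen.c), (gen Gen.d), (gen Gen.a), (gen Gen.f), (gen Gen.g), (gen Gen.e), (gen Gen.a), (gen Gen.e), (gen Gen.a), (gen Gen.g), (gen Gen.c), (gen Gen.b), (gen Gen.e), (gen Gen.d), (gen Gen.g), (gen Gen.c), (gen Gen.e), (gen Gen.g), (gen Gen.a), (gen Gen.e), (gen Gen.a), (gen Gen.e), (gen Gen.g), (gen Gen.b), (gen Gen.e), (gen Gen.f), (gen Gen.c), (gen Gen.b), (gen Gen.d), (gen Gen.e), (gen Gen.g), (gen Gen.f),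 (gen Gen.b), (gen Gen.g), (gen Gen.d), (gen Gen.c), (gen Gen.b), (gen Gen.d), (gen Gen.c), (gen Gen.g), (gen Gen.b), (gen Gen.c), (gen Gen.b), (gen Gen.d), (gen Gen.g), (gen Gen.f), (gen Gen.d), (gen Gen.f), (gen Gen.d), (gen Gen.f), (gen Gen.g), (gen Gen.c), (gen Gen.b), (gen Gen.d), (gen Gen.a), (gen Gen.b), (gen Gen.d), (gen Gen.g), (gen Gen.b), (gen Gen.e), (gen Gen.f), (gen Gen.e), (gen Gen.a), (gen Gen.e), (gen Gen.c), (gen Gen.f), (gen Gen.c), (gen Gen.d), (gen Gen.a), (gen Gen.f), (gen Gen.c), (gen Gen.d), (gen Gen.c), (gen Gen.d), (gen Gen.a), (gen Gen.c), (gen Gen.g), (gen Gen.b), (gen Gen.e), (gen Gen.f), (gen Gen.a), (gen Gen.g), (gen Gen.a), (gen Gen.f), (gen Gen.c), (gen Gen.b), (gen Gen.f), (gen Gen.c), (gen Gen.d), (gen Gen.e), (gen Gen.f), (gen Gen.a), (gen Gen.d), (gen Gen.g), (gen Gen.e), (gen Gen.a), (gen Gen.c), (gen Gen.d), (gen Gen.f), (gen Gen.a), (gen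 Gen.e), (gen Gen.g), (gen Gen.d), (gen Gen.a), (gen Gen.f), (gen Gen.a), (gen Gen.g), (gen Gen.f), (gen Gen.e), (gen Gen.b), (gen Gen.a), (gen Gen.f), (gen Gen.b), (gen Gen.c), (gen Gen.a), (gen Gen.b), (gen Gen.e), (gen Gen.g), (gen Gen.f), (gen Gen.g), (gen Gen.e), (gen Gen.f), (gen Gen.b), (gen Gen.f), (gen Gen.e), (gen Gen.a), (gen Gen.f)].prod
theorem tab_x1331 : Tab x1331 Tx1331 :=
  Tab.of_tabW (tabW_prodW (.cons (tab_gen Gen.c).tabW (.cons (tab_gen Gen.a).tabW (.cons (tab_gen Gen.b).tabW (.cons (tab_gen Gen.g).tabW (.cons (tab_gen Gen.a).tabW (.cons (tab_gen Gen.g).tabW (.cons (tab_gen Gen.f).tabW (.cons (tab_gen Gen.a).tabW (.cons (tab_gen Gen.c).tabW (.cons (tab_gen Gen.e).tabW (.cons (tab_gen Gen.d).tabW (.cons (tab_gen Gen.e).tabW (.cons (tab_gen Gen.c).tabW (.cons (tab_gen Gen.g).tabW (.cons (tab_gen Gen.f).tabW (.cons (tab_gen Gen.e).tabW (.cons (tab_gen Gen.c).tabW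 (.cons (tab_gen Gen.b).tabW (.cons (tab_gen Gen.d).tabW (.cons (tab_gen Gen.a).tabW (.cons (tab_gen Gen.d).tabW (.cons (tab_gen Gen.b).tabW (.cons (tab_gen Gen.d).tabW (.cons (tab_gen Gen.b).tabW (.cons (tab_gen Gen.a).tabW (.cons (tab_gen Gen.b).tabW (.cons (tab_gen Gen.f).tabW (.cons (tab_gen Gen.b).tabW (.cons (tab_gen Gen.e).tabW (.cons (tab_gen Gen.c).tabW (.cons (tab_gen Gen.a).tabW (.cons (tab_gen Gen.g).tabW (.cons (tab_gen Gen.a).tabW (.cons (tab_gen Gen.f).tabW (.cons (tab_gen Gen.c).tabW (.cons (tab_gen Gen.b).tabW (.cons (tab_gen Gen.c).tabW (.cons (tab_gen Gen.g).tabW (.cons (tab_gen Gen.b).tabW (.cons (tab_gen Gen.e).tabW (.cons (tab_gen Gen.g).tabW (.cons (tab_gen Gen.e).tabW (.cons (tab_gen Gen.g).tabW (.cons (tab_gen Gen.d).tabW (.cons (tab_gen Gen.g).tabW (.cons (tab_gen Gen.a).tabW (.cons (tab_gen Gen.c).tabW (.cons (tab_gen Gen.d).tabW (.cons (tab_gen Gen.c).tabW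 (.cons (tab_gen Gen.g).tabW (.cons (tab_gen Gen.a).tabW (.cons (tab_gen Gen.c).tabW (.cons (tab_gen Gen.g).tabW (.cons (tab_gen Gen.f).tabW (.cons (tab_gen Gen.g).tabW (.cons (tab_gen Gen.e).tabW (.cons (tab_gen Gen.f).tabW (.cons (tab_gen Gen.e).tabW (.cons (tab_gen Gen.a).tabW (.cons (tab_gen Gen.f).tabW (.cons (tab_gen Gen.c).tabW (.cons (tab_gen Gen.e).tabW (.cons (tab_gen Gen.f).tabW (.cons (tab_gen Gen.g).tabW (.cons (tab_gen Gen.b).tabW (.cons (tab_gen Gen.a).tabW (.cons (tab_gen Gen.f).tabW (.cons (tab_gen Gen.e).tabW (.cons (tab_gen Gen.b).tabW (.cons (tab_gen Gen.g).tabW (.cons (tab_gen Gen.b).tabW (.cons (tab_gen Gen.c).tabW (.cons (tab_gen Gen.f).tabW (.cons (tab_gen Gen.c).tabW (.cons (tab_gen Gen.d).tabW (.cons (tab_gen Gen.a).tabW (.cons (tab_gen Gen.f).tabW (.cons (tab_gen Gen.g).tabW (.cons (tab_gen Gen.e).tabW (.cons (tab_gen Gen.a).tabW (.cons (tab_gen Gen.e).tabW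 (.cons (tab_gen Gen.a).tabW (.cons (tab_gen Gen.g).tabW (.cons (tab_gen Gen.c).tabW (.cons (tab_gen Gen.b).tabW (.cons (tab_gen Gen.e).tabW (.cons (tab_gen Gen.d).tabW (.cons (tab_gen Gen.g).tabW (.cons (tab_gen Gen.c).tabW (.cons (tab_gen Gen.e).tabW (.cons (tab_gen Gen.g).tabW (.cons (tab_gen Gen.a).tabW (.cons (tab_gen Gen.e).tabW (.cons (tab_gen Gen.a).tabW (.cons (tab_gen Gen.e).tabW (.cons (tab_gen Gen.g).tabW (.cons (tab_gen Gen.b).tabW (.cons (tab_gen Gen.e).tabW (.cons (tab_gen Gen.f).tabW (.cons (tab_gen Gen.c).tabW (.cons (tab_gen Gen.b).tabW (.cons (tab_gen Gen.d).tabW (.cons (tab_gen Gen.e).tabW (.cons (tab_gen Gen.g).tabW (.cons (tab_gen Gen.f).tabW (.cons (tab_gen Gen.b).tabW (.cons (tab_gen Gen.g).tabW (.cons (tab_gen Gen.d).tabW (.cons (tab_gen Gen.c).tabW (.cons (tab_gen Gen.b).tabW (.cons (tab_gen Gen.d).tabW (.cons (tab_gen Gen.c).tabW (.cons (tab_gen Gen.g).tabW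 (.cons (tab_gen Gen.b).tabW (.cons (tab_gen Gen.c).tabW (.cons (tab_gen Gen.b).tabW (.cons (tab_gen Gen.d).tabW (.cons (tab_gen Gen.g).tabW (.cons (tab_gen Gen.f).tabW (.cons (tab_gen Gen.d).tabW (.cons (tab_gen Gen.f).tabW (.cons (tab_gen Gen.d).tabW (.cons (tab_gen Gen.f).tabW (.cons (tab_gen Gen.g).tabW (.cons (tab_gen Gen.c).tabW (.cons (tab_gen Gen.b).tabW (.cons (tab_gen Gen.d).tabW (.cons (tab_gen Gen.a).tabW (.cons (tab_gen Gen.b).tabW (.cons (tab_gen Gen.d).tabW (.cons (tab_gen Gen.g).tabW (.cons (tab_gen Gen.b).tabW (.cons (tab_gen Gen.e).tabW (.cons (tab_gen Gen.f).tabW (.cons (tab_gen Gen.e).tabW (.cons (tab_gen Gen.a).tabW (.cons (tab_gen Gen.e).tabW (.cons (tab_gen Gen.c).tabW (.cons (tab_gen Gen.f).tabW (.cons (tab_gen Gen.c).tabW (.cons (tab_gen Gen.d).tabW (.cons (tab_gen Gen.a).tabW (.cons (tab_gen Gen.f).tabW (.cons (tab_gen Gen.c).tabW (.cons (tab_gen Gen.d).tabW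 (.cons (tab_gen Gen.c).tabW (.cons (tab_gen Gen.d).tabW (.cons (tab_gen Gen.a).tabW (.cons (tab_gen Gen.c).tabW (.cons (tab_gen Gen.g).tabW (.cons (tab_gen Gen.b).tabW (.cons (tab_gen Gen.e).tabW (.cons (tab_gen Gen.f).tabW (.cons (tab_gen Gen.a).tabW (.cons (tab_gen Gen.g).tabW (.cons (tab_gen Gen.a).tabW (.cons (tab_gen Gen.f).tabW (.cons (tab_gen Gen.c).tabW (.cons (tab_gen Gen.b).tabW (.cons (tab_gen Gen.f).tabW (.cons (tab_gen Gen.c).tabW (.cons (tab_gen Gen.d).tabW (.cons (tab_gen Gen.e).tabW (.cons (tab_gen Gen.f).tabW (.cons (tab_gen Gen.a).tabW (.cons (tab_gen Gen.d).tabW (.cons (tab_gen Gen.g).tabW (.cons (tab_gen Gen.e).tabW (.cons (tab_gen Gen.a).tabW (.cons (tab_gen Gen.c).tabW (.cons (tab_gen Gen.d).tabW (.cons (tab_gen Gen.f).tabW (.cons (tab_gen Gen.a).tabW (.cons (tab_gen Gen.e).tabW (.cons (tab_gen Gen.g).tabW (.cons (tab_gen Gen.d).tabW (.cons (tab_gen Gen.a).tabW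 (.cons (tab_gen Gen.f).tabW (.cons (tab_gen Gen.a).tabW (.cons (tab_gen Gen.g).tabW (.cons (tab_gen Gen.f).tabW (.cons (tab_gen Gen.e).tabW (.cons (tab_gen Gen.b).tabW (.cons (tab_gen Gen.a).tabW (.cons (tab_gen Gen.f).tabW (.cons (tab_gen Gen.b).tabW (.cons (tab_gen Gen.c).tabW (.cons (tab_gen Gen.a).tabW (.cons (tab_gen Gen.b).tabW (.cons (tab_gen Gen.e).tabW (.cons (tab_gen Gen.g).tabW (.cons (tab_gen Gen.f).tabW (.cons (tab_gen Gen.g).tabW (.cons (tab_gen Gen.e).tabW (.cons (tab_gen Gen.f).tabW (.cons (tab_gen Gen.b).tabW (.cons (tab_gen Gen.f).tabW (.cons (tab_gen Gen.e).tabW (.cons (tab_gen Gen.a).tabW (.cons (tab_gen Gen.f).tabW .nil))))))))))))))))))))))))))))))))))))))))))))))))))))))))))))))))))))))))))))))))))))))))))))))))))))))))))))))))))))))))))))))))))))))))))))))))))))))))))))))))))))))))))))))))))))))))))))))))))))))))) (by decide +kernel)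
theorem tabi_x1331 : Tab x1331⁻¹ Ix1331 := tab_x1331.inv (by decide +kernel)

noncomputable def x1332 : ↥Gh :=
  [(gen Gen.f), (gen Gen.d), (gen Gen.b), (gen Gen.f), (gen Gen.c), (gen Gen.g), (gen Gen.f), (gen Gen.g), (gen Gen.d), (gen Gen.f), (gen Gen.c), (gen Gen.f), (gen Gen.g), (gen Gen.a), (gen Gen.c), (gen Gen.d), (gen Gen.a), (gen Gen.c), (gen Gen.a), (gen Gen.b), (gen Gen.c), (gen Gen.f), (gen Gen.g), (gen Gen.a), (gen Gen.c), (gen Gen.f), (gen Gen.a), (gen Gen.d), (gen Gen.f), (gen Gen.e), (gen Gen.g), (gen Gen.d), (gen Gen.a), (gen Gen.e), (gen Gen.a), (gen Gen.e), (gen Gen.g), (gen Gen.a), (gen Gen.d), (gen Gen.g), (gen Gen.c), (gen Gen.g), (gen Gen.a), (gen Gen.f), (gen Gen.c), (gen Gen.f), (gen Gen.d), (gen Gen.a), (gen Gen.e), (gen Gen.c), (gen Gen.d), (gen Gen.a), (gen Gen.c), (gen Gen.e), (gen Gen.f), (gen Gen.g), (gen Gen.a), (gen Gen.e), (gen Gen.c), (gen Gen.a),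 (gen Gen.g), (gen Gen.b), (gen Gen.d), (gen Gen.e), (gen Gen.f), (gen Gen.a), (gen Gen.c), (gen Gen.e), (gen Gen.c), (gen Gen.g), (gen Gen.c), (gen Gen.g), (gen Gen.f), (gen Gen.c), (gen Gen.a), (gen Gen.d), (gen Gen.g), (gen Gen.b), (gen Gen.a), (gen Gen.d), (gen Gen.g), (gen Gen.c), (gen Gen.f), (gen Gen.b), (gen Gen.e), (gen Gen.g), (gen Gen.f), (gen Gen.a), (gen Gen.g), (gen Gen.a), (gen Gen.f), (gen Gen.b), (gen Gen.e), (gen Gen.c), (gen Gen.g), (gen Gen.f), (gen Gen.d), (gen Gen.a), (gen Gen.d), (gen Gen.g), (gen Gen.e), (gen Gen.g), (gen Gen.d), (gen Gen.g), (gen Gen.c), (gen Gen.a), (gen Gen.f), (gen Gen.g), (gen Gen.a), (gen Gen.b), (gen Gen.g), (gen Gen.b), (gen Gen.a), (gen Gen.f), (gen Gen.g), (gen Gen.b), (gen Gen.f), (gen Gen.b), (gen Gen.g), (gen Gen.c), (gen Gen.f), (gen Gen.c), (gen Gen.a), (gen Gen.b), (gen Gen.a), (gen Gen.g), (gen Gen.d), (gen Gen.c), (gen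 Gen.a), (gen Gen.d), (gen Gen.b), (gen Gen.c), (gen Gen.e), (gen Gen.d), (gen Gen.f), (gen Gen.g), (gen Gen.b), (gen Gen.d), (gen Gen.a), (gen Gen.b), (gen Gen.g), (gen Gen.d), (gen Gen.g), (gen Gen.d), (gen Gen.e), (gen Gen.c), (gen Gen.d), (gen Gen.b), (gen Gen.d), (gen Gen.g), (gen Gen.c), (gen Gen.g), (gen Gen.e), (gen Gen.c), (gen Gen.g), (gen Gen.f), (gen Gen.e), (gen Gen.d), (gen Gen.e), (gen Gen.f), (gen Gen.a), (gen Gen.g), (gen Gen.c), (gen Gen.g), (gen Gen.a), (gen Gen.c), (gen Gen.g), (gen Gen.c), (gen Gen.e), (gen Gen.c), (gen Gen.f), (gen Gen.b), (gen Gen.e), (gen Gen.g), (gen Gen.f), (gen Gen.d), (gen Gen.g), (gen Gen.d), (gen Gen.f), (gen Gen.c), (gen Gen.a), (gen Gen.d), (gen Gen.c), (gen Gen.g), (gen Gen.d), (gen Gen.a), (gen Gen.e), (gen Gen.c), (gen Gen.d), (gen Gen.c), (gen Gen.b), (gen Gen.c), (gen Gen.e), (gen Gen.b), (gen Gen.g), (gen Gen.c), (gen Gen.g),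 (gen Gen.a), (gen Gen.c), (gen Gen.b)].prod
theorem tab_x1332 : Tab x1332 Tx1332 :=
  Tab.of_tabW (tabW_prodW (.cons (tab_gen Gen.f).tabW (.cons (tab_gen Gen.d).tabW (.cons (tab_gen Gen.b).tabW (.cons (tab_gen Gen.f).tabW (.cons (tab_gen Gen.c).tabW (.cons (tab_gen Gen.g).tabW (.cons (tab_gen Gen.f).tabW (.cons (tab_gen Gen.g).tabW (.cons (tab_gen Gen.d).tabW (.cons (tab_gen Gen.f).tabW (.cons (tab_gen Gen.c).tabW (.cons (tab_gen Gen.f).tabW (.cons (tab_gen Gen.g).tabW (.cons (tab_gen Gen.a).tabW (.cons (tab_gen Gen.c).tabW (.cons (tab_gen Gen.d).tabW (.cons (tab_gen Gen.a).tabW (.cons (tab_gen Gen.c).tabW (.cons (tab_gen Gen.a).tabW (.cons (tab_gen Gen.b).tabW (.cons (tab_gen Gen.c).tabW (.cons (tab_gen Gen.f).tabW (.cons (tab_gen Gen.g).tabW (.cons (tab_gen Gen.a).tabW (.cons (tab_gen Gen.c).tabW (.cons (tab_gen Gen.f).tabW (.cons (tab_gen Gen.a).tabW (.cons (tab_gen Gen.d).tabW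 (.cons (tab_gen Gen.f).tabW (.cons (tab_gen Gen.e).tabW (.cons (tab_gen Gen.g).tabW (.cons (tab_gen Gen.d).tabW (.cons (tab_gen Gen.a).tabW (.cons (tab_gen Gen.e).tabW (.cons (tab_gen Gen.a).tabW (.cons (tab_gen Gen.e).tabW (.cons (tab_gen Gen.g).tabW (.cons (tab_gen Gen.a).tabW (.cons (tab_gen Gen.d).tabW (.cons (tab_gen Gen.g).tabW (.cons (tab_gen Gen.c).tabW (.cons (tab_gen Gen.g).tabW (.cons (tab_gen Gen.a).tabW (.cons (tab_gen Gen.f).tabW (.cons (tab_gen Gen.c).tabW (.cons (tab_gen Gen.f).tabW (.cons (tab_gen Gen.d).tabW (.cons (tab_gen Gen.a).tabW (.cons (tab_gen Gen.e).tabW (.cons (tab_gen Gen.c).tabW (.cons (tab_gen Gen.d).tabW (.cons (tab_gen Gen.a).tabW (.cons (tab_gen Gen.c).tabW (.cons (tab_gen Gen.e).tabW (.cons (tab_gen Gen.f).tabW (.cons (tab_gen Gen.g).tabW (.cons (tab_gen Gen.a).tabW (.cons (tab_gen Gen.e).tabW (.cons (tab_gen Gen.c).tabW (.cons (tab_gen Gen.a).tabW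 (.cons (tab_gen Gen.g).tabW (.cons (tab_gen Gen.b).tabW (.cons (tab_gen Gen.d).tabW (.cons (tab_gen Gen.e).tabW (.cons (tab_gen Gen.f).tabW (.cons (tab_gen Gen.a).tabW (.cons (tab_gen Gen.c).tabW (.cons (tab_gen Gen.e).tabW (.cons (tab_gen Gen.c).tabW (.cons (tab_gen Gen.g).tabW (.cons (tab_gen Gen.c).tabW (.cons (tab_gen Gen.g).tabW (.cons (tab_gen Gen.f).tabW (.cons (tab_gen Gen.c).tabW (.cons (tab_gen Gen.a).tabW (.cons (tab_gen Gen.d).tabW (.cons (tab_gen Gen.g).tabW (.cons (tab_gen Gen.b).tabW (.cons (tab_gen Gen.a).tabW (.cons (tab_gen Gen.d).tabW (.cons (tab_gen Gen.g).tabW (.cons (tab_gen Gen.c).tabW (.cons (tab_gen Gen.f).tabW (.cons (tab_gen Gen.b).tabW (.cons (tab_gen Gen.e).tabW (.cons (tab_gen Gen.g).tabW (.cons (tab_gen Gen.f).tabW (.cons (tab_gen Gen.a).tabW (.cons (tab_gen Gen.g).tabW (.cons (tab_gen Gen.a).tabW (.cons (tab_gen Gen.f).tabW (.cons (tab_gen Gen.b).tabW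 (.cons (tab_gen Gen.e).tabW (.cons (tab_gen Gen.c).tabW (.cons (tab_gen Gen.g).tabW (.cons (tab_gen Gen.f).tabW (.cons (tab_gen Gen.d).tabW (.cons (tab_gen Gen.a).tabW (.cons (tab_gen Gen.d).tabW (.cons (tab_gen Gen.g).tabW (.cons (tab_gen Gen.e).tabW (.cons (tab_gen Gen.g).tabW (.cons (tab_gen Gen.d).tabW (.cons (tab_gen Gen.g).tabW (.cons (tab_gen Gen.c).tabW (.cons (tab_gen Gen.a).tabW (.cons (tab_gen Gen.f).tabW (.cons (tab_gen Gen.g).tabW (.cons (tab_gen Gen.a).tabW (.cons (tab_gen Gen.b).tabW (.cons (tab_gen Gen.g).tabW (.cons (tab_gen Gen.b).tabW (.cons (tab_gen Gen.a).tabW (.cons (tab_gen Gen.f).tabW (.cons (tab_gen Gen.g).tabW (.cons (tab_gen Gen.b).tabW (.cons (tab_gen Gen.f).tabW (.cons (tab_gen Gen.b).tabW (.cons (tab_gen Gen.g).tabW (.cons (tab_gen Gen.c).tabW (.cons (tab_gen Gen.f).tabW (.cons (tab_gen Gen.c).tabW (.cons (tab_gen Gen.a).tabW (.cons (tab_gen Gen.b).tabW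 (.cons (tab_gen Gen.a).tabW (.cons (tab_gen Gen.g).tabW (.cons (tab_gen Gen.d).tabW (.cons (tab_gen Gen.c).tabW (.cons (tab_gen Gen.a).tabW (.cons (tab_gen Gen.d).tabW (.cons (tab_gen Gen.b).tabW (.cons (tab_gen Gen.c).tabW (.cons (tab_gen Gen.e).tabW (.cons (tab_gen Gen.d).tabW (.cons (tab_gen Gen.f).tabW (.cons (tab_gen Gen.g).tabW (.cons (tab_gen Gen.b).tabW (.cons (tab_gen Gen.d).tabW (.cons (tab_gen Gen.a).tabW (.cons (tab_gen Gen.b).tabW (.cons (tab_gen Gen.g).tabW (.cons (tab_gen Gen.d).tabW (.cons (tab_gen Gen.g).tabW (.cons (tab_gen Gen.d).tabW (.cons (tab_gen Gen.e).tabW (.cons (tab_gen Gen.c).tabW (.cons (tab_gen Gen.d).tabW (.cons (tab_gen Gen.b).tabW (.cons (tab_gen Gen.d).tabW (.cons (tab_gen Gen.g).tabW (.cons (tab_gen Gen.c).tabW (.cons (tab_gen Gen.g).tabW (.cons (tab_gen Gen.e).tabW (.cons (tab_gen Gen.c).tabW (.cons (tab_gen Gen.g).tabW (.cons (tab_gen Gen.f).tabW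 (.cons (tab_gen Gen.e).tabW (.cons (tab_gen Gen.d).tabW (.cons (tab_gen Gen.e).tabW (.cons (tab_gen Gen.f).tabW (.cons (tab_gen Gen.a).tabW (.cons (tab_gen Gen.g).tabW (.cons (tab_gen Gen.c).tabW (.cons (tab_gen Gen.g).tabW (.cons (tab_gen Gen.a).tabW (.cons (tab_gen Gen.c).tabW (.cons (tab_gen Gen.g).tabW (.cons (tab_gen Gen.c).tabW (.cons (tab_gen Gen.e).tabW (.cons (tab_gen Gen.c).tabW (.cons (tab_gen Gen.f).tabW (.cons (tab_gen Gen.b).tabW (.cons (tab_gen Gen.e).tabW (.cons (tab_gen Gen.g).tabW (.cons (tab_gen Gen.f).tabW (.cons (tab_gen Gen.d).tabW (.cons (tab_gen Gen.g).tabW (.cons (tab_gen Gen.d).tabW (.cons (tab_gen Gen.f).tabW (.cons (tab_gen Gen.c).tabW (.cons (tab_gen Gen.a).tabW (.cons (tab_gen Gen.d).tabW (.cons (tab_gen Gen.c).tabW (.cons (tab_gen Gen.g).tabW (.cons (tab_gen Gen.d).tabW (.cons (tab_gen Gen.a).tabW (.cons (tab_gen Gen.e).tabW (.cons (tab_gen Gen.c).tabW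 (.cons (tab_gen Gen.d).tabW (.cons (tab_gen Gen.c).tabW (.cons (tab_gen Gen.b).tabW (.cons (tab_gen Gen.c).tabW (.cons (tab_gen Gen.e).tabW (.cons (tab_gen Gen.b).tabW (.cons (tab_gen Gen.g).tabW (.cons (tab_gen Gen.c).tabW (.cons (tab_gen Gen.g).tabW (.cons (tab_gen Gen.a).tabW (.cons (tab_gen Gen.c).tabW (.cons (tab_gen Gen.b).tabW .nil))))))))))))))))))))))))))))))))))))))))))))))))))))))))))))))))))))))))))))))))))))))))))))))))))))))))))))))))))))))))))))))))))))))))))))))))))))))))))))))))))))))))))))))))))))))))))))))))))))))))) (by decide +kernel)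
theorem tabi_x1332 : Tab x1332⁻¹ Ix1332 := tab_x1332.inv (by decide +kernel)

noncomputable def x1333 : ↥Gh :=
  [(gen Gen.b), (gen Gen.d), (gen Gen.e), (gen Gen.b), (gen Gen.c), (gen Gen.g), (gen Gen.a), (gen Gen.d), (gen Gen.f), (gen Gen.e), (gen Gen.c), (gen Gen.g), (gen Gen.f), (gen Gen.a), (gen Gen.e), (gen Gen.f), (gen Gen.a), (gen Gen.d), (gen Gen.f), (gen Gen.g), (gen Gen.d), (gen Gen.a), (gen Gen.b), (gen Gen.g), (gen Gen.c), (gen Gen.e), (gen Gen.b), (gen Gen.f), (gen Gen.g), (gen Gen.f), (gen Gen.e), (gen Gen.c), (gen Gen.b), (gen Gen.c), (gen Gen.g), (gen Gen.b), (gen Gen.e), (gen Gen.d), (gen Gen.g), (gen Gen.b), (gen Gen.g), (gen Gen.a), (gen Gen.c), (gen Gen.a), (gen Gen.g), (gen Gen.a), (gen Gen.b), (gen Gen.g), (gen Gen.e), (gen Gen.b), (gen Gen.g), (gen Gen.a), (gen Gen.f), (gen Gen.e), (gen Gen.b), (gen Gen.c), (gen Gen.f), (gen Gen.e), (gen Gen.c), (gen Gen.g),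 (gen Gen.a), (gen Gen.f), (gen Gen.g), (gen Gen.c), (gen Gen.d), (gen Gen.b), (gen Gen.d), (gen Gen.c), (gen Gen.g), (gen Gen.d), (gen Gen.g), (gen Gen.c), (gen Gen.d), (gen Gen.b), (gen Gen.g), (gen Gen.a), (gen Gen.f), (gen Gen.d), (gen Gen.e), (gen Gen.d), (gen Gen.c), (gen Gen.d), (gen Gen.f), (gen Gen.d), (gen Gen.a), (gen Gen.f), (gen Gen.c), (gen Gen.e), (gen Gen.c), (gen Gen.a), (gen Gen.b), (gen Gen.d), (gen Gen.g), (gen Gen.d), (gen Gen.g), (gen Gen.d), (gen Gen.b), (gen Gen.a), (gen Gen.g), (gen Gen.a), (gen Gen.g), (gen Gen.f), (gen Gen.c), (gen Gen.e), (gen Gen.d), (gen Gen.g), (gen Gen.d), (gen Gen.b), (gen Gen.e), (gen Gen.g), (gen Gen.c), (gen Gen.e), (gen Gen.d), (gen Gen.e), (gen Gen.f), (gen Gen.c), (gen Gen.a), (gen Gen.g), (gen Gen.f), (gen Gen.d), (gen Gen.f), (gen Gen.a), (gen Gen.c), (gen Gen.g), (gen Gen.e), (gen Gen.g), (gen Gen.a), (gen Gen.e), (gen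 Gen.g), (gen Gen.b), (gen Gen.f), (gen Gen.d), (gen Gen.f), (gen Gen.a), (gen Gen.c), (gen Gen.f), (gen Gen.b), (gen Gen.c), (gen Gen.b), (gen Gen.a), (gen Gen.e), (gen Gen.a), (gen Gen.c), (gen Gen.b), (gen Gen.d), (gen Gen.f), (gen Gen.g), (gen Gen.e), (gen Gen.f), (gen Gen.a), (gen Gen.g), (gen Gen.c), (gen Gen.e), (gen Gen.b), (gen Gen.f), (gen Gen.b), (gen Gen.c), (gen Gen.e), (gen Gen.d), (gen Gen.b), (gen Gen.c), (gen Gen.e), (gen Gen.g), (gen Gen.e), (gen Gen.f), (gen Gen.g), (gen Gen.c), (gen Gen.b), (gen Gen.f), (gen Gen.e), (gen Gen.a), (gen Gen.d), (gen Gen.a), (gen Gen.e), (gen Gen.a), (gen Gen.b), (gen Gen.f), (gen Gen.c), (gen Gen.g), (gen Gen.d), (gen Gen.f), (gen Gen.c), (gen Gen.a), (gen Gen.d), (gen Gen.b), (gen Gen.c), (gen Gen.a), (gen Gen.e), (gen Gen.g), (gen Gen.f), (gen Gen.g), (gen Gen.f), (gen Gen.b), (gen Gen.c), (gen Gen.d), (gen Gen.f), (gen Gen.d),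 (gen Gen.e), (gen Gen.a), (gen Gen.f)].prod
theorem tab_x1333 : Tab x1333 Tx1333 :=
  Tab.of_tabW (tabW_prodW (.cons (tab_gen Gen.b).tabW (.cons (tab_gen Gen.d).tabW (.cons (tab_gen Gen.e).tabW (.cons (tab_gen Gen.b).tabW (.cons (tab_gen Gen.c).tabW (.cons (tab_gen Gen.g).tabW (.cons (tab_gen Gen.a).tabW (.cons (tab_gen Gen.d).tabW (.cons (tab_gen Gen.f).tabW (.cons (tab_gen Gen.e).tabW (.cons (tab_gen Gen.c).tabW (.cons (tab_gen Gen.g).tabW (.cons (tab_gen Gen.f).tabW (.cons (tab_gen Gen.a).tabW (.cons (tab_gen Gen.e).tabW (.cons (tab_gen Gen.f).tabW (.cons (tab_gen Gen.a).tabW (.cons (tab_gen Gen.d).tabW (.cons (tab_gen Gen.f).tabW (.cons (tab_gen Gen.g).tabW (.cons (tab_gen Gen.d).tabW (.cons (tab_gen Gen.a).tabW (.cons (tab_gen Gen.b).tabW (.cons (tab_gen Gen.g).tabW (.cons (tab_gen Gen.c).tabW (.cons (tab_gen Gen.e).tabW (.cons (tab_gen Gen.b).tabW (.cons (tab_gen Gen.f).tabW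 (.cons (tab_gen Gen.g).tabW (.cons (tab_gen Gen.f).tabW (.cons (tab_gen Gen.e).tabW (.cons (tab_gen Gen.c).tabW (.cons (tab_gen Gen.b).tabW (.cons (tab_gen Gen.c).tabW (.cons (tab_gen Gen.g).tabW (.cons (tab_gen Gen.b).tabW (.cons (tab_gen Gen.e).tabW (.cons (tab_gen Gen.d).tabW (.cons (tab_gen Gen.g).tabW (.cons (tab_gen Gen.b).tabW (.cons (tab_gen Gen.g).tabW (.cons (tab_gen Gen.a).tabW (.cons (tab_gen Gen.c).tabW (.cons (tab_gen Gen.a).tabW (.cons (tab_gen Gen.g).tabW (.cons (tab_gen Gen.a).tabW (.cons (tab_gen Gen.b).tabW (.cons (tab_gen Gen.g).tabW (.cons (tab_gen Gen.e).tabW (.cons (tab_gen Gen.b).tabW (.cons (tab_gen Gen.g).tabW (.cons (tab_gen Gen.a).tabW (.cons (tab_gen Gen.f).tabW (.cons (tab_gen Gen.e).tabW (.cons (tab_gen Gen.b).tabW (.cons (tab_gen Gen.c).tabW (.cons (tab_gen Gen.f).tabW (.cons (tab_gen Gen.e).tabW (.cons (tab_gen Gen.c).tabW (.cons (tab_gen Gen.g).tabW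 (.cons (tab_gen Gen.a).tabW (.cons (tab_gen Gen.f).tabW (.cons (tab_gen Gen.g).tabW (.cons (tab_gen Gen.c).tabW (.cons (tab_gen Gen.d).tabW (.cons (tab_gen Gen.b).tabW (.cons (tab_gen Gen.d).tabW (.cons (tab_gen Gen.c).tabW (.cons (tab_gen Gen.g).tabW (.cons (tab_gen Gen.d).tabW (.cons (tab_gen Gen.g).tabW (.cons (tab_gen Gen.c).tabW (.cons (tab_gen Gen.d).tabW (.cons (tab_gen Gen.b).tabW (.cons (tab_gen Gen.g).tabW (.cons (tab_gen Gen.a).tabW (.cons (tab_gen Gen.f).tabW (.cons (tab_gen Gen.d).tabW (.cons (tab_gen Gen.e).tabW (.cons (tab_gen Gen.d).tabW (.cons (tab_gen Gen.c).tabW (.cons (tab_gen Gen.d).tabW (.cons (tab_gen Gen.f).tabW (.cons (tab_gen Gen.d).tabW (.cons (tab_gen Gen.a).tabW (.cons (tab_gen Gen.f).tabW (.cons (tab_gen Gen.c).tabW (.cons (tab_gen Gen.e).tabW (.cons (tab_gen Gen.c).tabW (.cons (tab_gen Gen.a).tabW (.cons (tab_gen Gen.b).tabW (.cons (tab_gen Gen.d).tabW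 (.cons (tab_gen Gen.g).tabW (.cons (tab_gen Gen.d).tabW (.cons (tab_gen Gen.g).tabW (.cons (tab_gen Gen.d).tabW (.cons (tab_gen Gen.b).tabW (.cons (tab_gen Gen.a).tabW (.cons (tab_gen Gen.g).tabW (.cons (tab_gen Gen.a).tabW (.cons (tab_gen Gen.g).tabW (.cons (tab_gen Gen.f).tabW (.cons (tab_gen Gen.c).tabW (.cons (tab_gen Gen.e).tabW (.cons (tab_gen Gen.d).tabW (.cons (tab_gen Gen.g).tabW (.cons (tab_gen Gen.d).tabW (.cons (tab_gen Gen.b).tabW (.cons (tab_gen Gen.e).tabW (.cons (tab_gen Gen.g).tabW (.cons (tab_gen Gen.c).tabW (.cons (tab_gen Gen.e).tabW (.cons (tab_gen Gen.d).tabW (.cons (tab_gen Gen.e).tabW (.cons (tab_gen Gen.f).tabW (.cons (tab_gen Gen.c).tabW (.cons (tab_gen Gen.a).tabW (.cons (tab_gen Gen.g).tabW (.cons (tab_gen Gen.f).tabW (.cons (tab_gen Gen.d).tabW (.cons (tab_gen Gen.f).tabW (.cons (tab_gen Gen.a).tabW (.cons (tab_gen Gen.c).tabW (.cons (tab_gen Gen.g).tabW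 (.cons (tab_gen Gen.e).tabW (.cons (tab_gen Gen.g).tabW (.cons (tab_gen Gen.a).tabW (.cons (tab_gen Gen.e).tabW (.cons (tab_gen Gen.g).tabW (.cons (tab_gen Gen.b).tabW (.cons (tab_gen Gen.f).tabW (.cons (tab_gen Gen.d).tabW (.cons (tab_gen Gen.f).tabW (.cons (tab_gen Gen.a).tabW (.cons (tab_gen Gen.c).tabW (.cons (tab_gen Gen.f).tabW (.cons (tab_gen Gen.b).tabW (.cons (tab_gen Gen.c).tabW (.cons (tab_gen Gen.b).tabW (.cons (tab_gen Gen.a).tabW (.cons (tab_gen Gen.e).tabW (.cons (tab_gen Gen.a).tabW (.cons (tab_gen Gen.c).tabW (.cons (tab_gen Gen.b).tabW (.cons (tab_gen Gen.d).tabW (.cons (tab_gen Gen.f).tabW (.cons (tab_gen Gen.g).tabW (.cons (tab_gen Gen.e).tabW (.cons (tab_gen Gen.f).tabW (.cons (tab_gen Gen.a).tabW (.cons (tab_gen Gen.g).tabW (.cons (tab_gen Gen.c).tabW (.cons (tab_gen Gen.e).tabW (.cons (tab_gen Gen.b).tabW (.cons (tab_gen Gen.f).tabW (.cons (tab_gen Gen.b).tabW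 (.cons (tab_gen Gen.c).tabW (.cons (tab_gen Gen.e).tabW (.cons (tab_gen Gen.d).tabW (.cons (tab_gen Gen.b).tabW (.cons (tab_gen Gen.c).tabW (.cons (tab_gen Gen.e).tabW (.cons (tab_gen Gen.g).tabW (.cons (tab_gen Gen.e).tabW (.cons (tab_gen Gen.f).tabW (.cons (tab_gen Gen.g).tabW (.cons (tab_gen Gen.c).tabW (.cons (tab_gen Gen.b).tabW (.cons (tab_gen Gen.f).tabW (.cons (tab_gen Gen.e).tabW (.cons (tab_gen Gen.a).tabW (.cons (tab_gen Gen.d).tabW (.cons (tab_gen Gen.a).tabW (.cons (tab_gen Gen.e).tabW (.cons (tab_gen Gen.a).tabW (.cons (tab_gen Gen.b).tabW (.cons (tab_gen Gen.f).tabW (.cons (tab_gen Gen.c).tabW (.cons (tab_gen Gen.g).tabW (.cons (tab_gen Gen.d).tabW (.cons (tab_gen Gen.f).tabW (.cons (tab_gen Gen.c).tabW (.cons (tab_gen Gen.a).tabW (.cons (tab_gen Gen.d).tabW (.cons (tab_gen Gen.b).tabW (.cons (tab_gen Gen.c).tabW (.cons (tab_gen Gen.a).tabW (.cons (tab_gen Gen.e).tabW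 (.cons (tab_gen Gen.g).tabW (.cons (tab_gen Gen.f).tabW (.cons (tab_gen Gen.g).tabW (.cons (tab_gen Gen.f).tabW (.cons (tab_gen Gen.b).tabW (.cons (tab_gen Gen.c).tabW (.cons (tab_gen Gen.d).tabW (.cons (tab_gen Gen.f).tabW (.cons (tab_gen Gen.d).tabW (.cons (tab_gen Gen.e).tabW (.cons (tab_gen Gen.a).tabW (.cons (tab_gen Gen.f).tabW .nil))))))))))))))))))))))))))))))))))))))))))))))))))))))))))))))))))))))))))))))))))))))))))))))))))))))))))))))))))))))))))))))))))))))))))))))))))))))))))))))))))))))))))))))))))))))))))))))))))))))))) (by decide +kernel)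
theorem tabi_x1333 : Tab x1333⁻¹ Ix1333 := tab_x1333.inv (by decide +kernel)

noncomputable def x1336 : ↥Gh :=
  [(gen Gen.a), x1328, x1332, x1326, x1327 ^ 2, (gen Gen.a), x1327⁻¹ ^ 2, x1326⁻¹, x1332⁻¹, x1328⁻¹].prod
theorem tab_x1336 : Tab x1336 Tx1336 :=
  Tab.of_tabW (tabW_prodW (.cons (tab_gen Gen.a).tabW (.cons tab_x1328.tabW (.cons tab_x1332.tabW (.cons tab_x1326.tabW (.cons (tab_x1327.tabW.pow 2) (.cons (tab_gen Gen.a).tabW (.cons (tabi_x1327.tabW.pow 2) (.cons tabi_x1326.tabW (.cons tabi_x1332.tabW (.cons tabi_x1328.tabW .nil))))))))))) (by decide +kernel)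
theorem tabi_x1336 : Tab x1336⁻¹ Ix1336 := tab_x1336.inv (by decide +kernel)

end Cfsg.Agent.Lib.Helper8.HeTab
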