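import Cfsg.Agent.Lib.Helper8.HeElts.E4

/- elements of He as straight-line products with their packed tables (helper8, generated) -/
set_option autoImplicit false
set_option maxRecDepth 8000

namespace Cfsg.Agent.Lib.Helper8.HeTab

open Cfsg.Spor.He (Gen)
open Cfsg.Agent.Lib.Helper28 Cfsg.Agent.Lib.Helper28.TC Cfsg.Agent.Lib.Helper28.He2058
open Cfsg.Agent.Lib.Helper56.HePerm

noncomputable def x1341 : ↥Gh :=
  [(gen Gen.a), x1328, x1326, x1333, x1328, (gen Gen.a), x1328⁻¹, x1333⁻¹, x1326⁻¹, x1328⁻¹].prod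
theorem tab_x1341 : Tab x1341 Tx1341 :=
  Tab.of_tabW (tabW_prodW (.cons (tab_gen Gen.a).tabW (.cons tab_x1328.tabW (.cons tab_x1326.tabW (.cons tab_x1333.tabW (.cons tab_x1328.tabW (.cons (tab_gen Gen.a).tabW (.cons tabi_x1328.tabW (.cons tabi_x1333.tabW (.cons tabi_x1326.tabW (.cons tabi_x1328.tabW .nil))))))))))) (by decide +kernel)
theorem tabi_x1341 : Tab x1341⁻¹ Ix1341 := tab_x1341.inv (by decide +kernel)

noncomputable def b5 : ↥Gh :=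
  [(gen Gen.a), x1332, x1331, x1329, x1331, x1332, (gen Gen.a), x1332⁻¹, x1331⁻¹, x1329⁻¹, x1331⁻¹, x1332⁻¹].prod
theorem tab_b5 : Tab b5 Tb5 :=
  Tab.of_tabW (tabW_prodW (.cons (tab_gen Gen.a).tabW (.cons tab_x1332.tabW (.cons tab_x1331.tabW (.cons tab_x1329.tabW (.cons tab_x1331.tabW (.cons tab_x1332.tabW (.cons (tab_gen Gen.a).tabW (.cons tabi_x1332.tabW (.cons tabi_x1331.tabW (.cons tabi_x1329.tabW (.cons tabi_x1331.tabW (.cons tabi_x1332.tabW .nil))))))))))))) (by decide +kernel)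

noncomputable def t5 : ↥Gh :=
  [x1341 ^ 2, x1328, x1326, x1333, x1328, x1341 ^ 2, x1328, x1326, x1333, x1328, x1336 ^ 3, x1328, x1332, x1326, x1327 ^ 2, x1336 ^ 3, x1328, x1332, x1326, x1327 ^ 2, x1336 ^ 3, x1328, x1332, x1326, x1327 ^ 2, x1336 ^ 3, x1328, x1332, x1326, x1327 ^ 2, (gen Gen.a), x1328⁻¹, x1333⁻¹, x1326⁻¹, x1328⁻¹, x1341⁻¹ ^ 2, x1328⁻¹, x1333⁻¹, x1326⁻¹, x1328⁻¹, x1341⁻¹ ^ 2].prod
theorem tab_t5 : Tab t5 Tt5 :=
  Tab.of_tabW (tabW_prodW (.cons (tab_x1341.tabW.pow 2) (.cons tab_x1328.tabW (.cons tab_x1326.tabW (.cons tab_x1333.tabW (.cons tab_x1328.tabW (.cons (tab_x1341.tabW.pow 2) (.cons tab_x1328.tabW (.cons tab_x1326.tabW (.cons tab_x1333.tabW (.cons tab_x1328.tabW (.cons (tab_x1336.tabW.pow 3) (.cons tab_x1328.tabW (.cons tab_x1332.tabW (.cons tab_x1326.tabW (.cons (tab_x1327.tabW.pow 2) (.cons (tab_x1336.tabW.pow 3) (.cons tab_x1328.tabW (.cons tab_x1332.tabW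 (.cons tab_x1326.tabW (.cons (tab_x1327.tabW.pow 2) (.cons (tab_x1336.tabW.pow 3) (.cons tab_x1328.tabW (.cons tab_x1332.tabW (.cons tab_x1326.tabW (.cons (tab_x1327.tabW.pow 2) (.cons (tab_x1336.tabW.pow 3) (.cons tab_x1328.tabW (.cons tab_x1332.tabW (.cons tab_x1326.tabW (.cons (tab_x1327.tabW.pow 2) (.cons (tab_gen Gen.a).tabW (.cons tabi_x1328.tabW (.cons tabi_x1333.tabW (.cons tabi_x1326.tabW (.cons tabi_x1328.tabW (.cons (tabi_x1341.tabW.pow 2) (.cons tabi_x1328.tabW (.cons tabi_x1333.tabW (.cons tabi_x1326.tabW (.cons tabi_x1328.tabW (.cons (tabi_x1341.tabW.pow 2) .nil)))))))))))))))))))))))))))))))))))))))))) (by decide +kernel)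

noncomputable def x1580 : ↥Gh :=
  [x1336 ^ 3, x1328, x1332, x1326, x1327 ^ 2, x1341 ^ 2, x1328, x1326, x1333, x1328, x1336 ^ 3, x1328, x1332, x1326, x1327 ^ 2, x1341 ^ 2, x1328, x1326, x1333, x1328, x1336 ^ 3, x1328, x1332, x1326, x1327 ^ 2, x1341 ^ 2, x1328, x1326, x1333, x1328].prod
theorem tab_x1580 : Tab x1580 Tx1580 :=
  Tab.of_tabW (tabW_prodW (.cons (tab_x1336.tabW.pow 3) (.cons tab_x1328.tabW (.cons tab_x1332.tabW (.cons tab_x1326.tabW (.cons (tab_x1327.tabW.pow 2) (.cons (tab_x1341.tabW.pow 2) (.cons tab_x1328.tabW (.cons tab_x1326.tabW (.cons tab_x1333.tabW (.cons tab_x1328.tabW (.cons (tab_x1336.tabW.pow 3) (.cons tab_x1328.tabW (.cons tab_x1332.tabW (.cons tab_x1326.tabW (.cons (tab_x1327.tabW.pow 2) (.cons (tab_x1341.tabW.pow 2) (.cons tab_x1328.tabW (.cons tab_x1326.tabW (.cons tab_x1333.tabW (.cons tab_x1328.tabW (.cons (tab_x1336.tabW.pow 3) (.cons tab_x1328.tabW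 (.cons tab_x1332.tabW (.cons tab_x1326.tabW (.cons (tab_x1327.tabW.pow 2) (.cons (tab_x1341.tabW.pow 2) (.cons tab_x1328.tabW (.cons tab_x1326.tabW (.cons tab_x1333.tabW (.cons tab_x1328.tabW .nil))))))))))))))))))))))))))))))) (by decide +kernel)
theorem tabi_x1580 : Tab x1580⁻¹ Ix1580 := tab_x1580.inv (by decide +kernel)

noncomputable def a5 : ↥Gh :=
  [x1580⁻¹, x1327⁻¹ ^ 2, x1326⁻¹, x1332⁻¹, x1328⁻¹, x1336⁻¹ ^ 3, x1327⁻¹ ^ 2, x1326⁻¹, x1332⁻¹, x1328⁻¹, x1336⁻¹ ^ 3, x1328⁻¹, x1333⁻¹, x1326⁻¹, x1328⁻¹, x1341⁻¹ ^ 2, x1336 ^ 3, x1328, x1332, x1326, x1327 ^ 2, x1341 ^ 2, x1328, x1326, x1333, x1328, x1336 ^ 3, x1328, x1332, x1326, x1327 ^ 2, x1341 ^ 2, x1328, x1326, x1333, x1328, x1336 ^ 3, x1328, x1332, x1326, x1327 ^ 2, x1328⁻¹, x1333⁻¹, x1326⁻¹, x1328⁻¹, x1341⁻¹ ^ 2].prod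
theorem tab_a5 : Tab a5 Ta5 :=
  Tab.of_tabW (tabW_prodW (.cons tabi_x1580.tabW (.cons (tabi_x1327.tabW.pow 2) (.cons tabi_x1326.tabW (.cons tabi_x1332.tabW (.cons tabi_x1328.tabW (.cons (tabi_x1336.tabW.pow 3) (.cons (tabi_x1327.tabW.pow 2) (.cons tabi_x1326.tabW (.cons tabi_x1332.tabW (.cons tabi_x1328.tabW (.cons (tabi_x1336.tabW.pow 3) (.cons tabi_x1328.tabW (.cons tabi_x1333.tabW (.cons tabi_x1326.tabW (.cons tabi_x1328.tabW (.cons (tabi_x1341.tabW.pow 2) (.cons (tab_x1336.tabW.pow 3) (.cons tab_x1328.tabW (.cons tab_x1332.tabW (.cons tab_x1326.tabW (.cons (tab_x1327.tabW.pow 2) (.cons (tab_x1341.tabW.pow 2) (.cons tab_x1328.tabW (.cons tab_x1326.tabW (.cons tab_x1333.tabW (.cons tab_x1328.tabW (.cons (tab_x1336.tabW.pow 3) (.cons tab_x1328.tabW (.cons tab_x1332.tabW (.cons tab_x1326.tabW (.cons (tab_x1327.tabW.pow 2) (.cons (tab_x1341.tabW.pow 2) (.cons tab_x1328.tabW (.cons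 tab_x1326.tabW (.cons tab_x1333.tabW (.cons tab_x1328.tabW (.cons (tab_x1336.tabW.pow 3) (.cons tab_x1328.tabW (.cons tab_x1332.tabW (.cons tab_x1326.tabW (.cons (tab_x1327.tabW.pow 2) (.cons tabi_x1328.tabW (.cons tabi_x1333.tabW (.cons tabi_x1326.tabW (.cons tabi_x1328.tabW (.cons (tabi_x1341.tabW.pow 2) .nil))))))))))))))))))))))))))))))))))))))))))))))) (by decide +kernel)

noncomputable def x4782 : ↥Gh :=
  [(gen Gen.d), x1331, x1332, x1328, x1329, (gen Gen.d), x1329⁻¹, x1328⁻¹, x1332⁻¹, x1331⁻¹].prod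
theorem tab_x4782 : Tab x4782 Tx4782 :=
  Tab.of_tabW (tabW_prodW (.cons (tab_gen Gen.d).tabW (.cons tab_x1331.tabW (.cons tab_x1332.tabW (.cons tab_x1328.tabW (.cons tab_x1329.tabW (.cons (tab_gen Gen.d).tabW (.cons tabi_x1329.tabW (.cons tabi_x1328.tabW (.cons tabi_x1332.tabW (.cons tabi_x1331.tabW .nil))))))))))) (by decide +kernel)

noncomputable def x4788 : ↥Gh :=
  [(gen Gen.d), x1332⁻¹, x1328⁻¹, x1332⁻¹, x1330⁻¹, (gen Gen.d), x1330, x1332, x1328, x1332].prod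
theorem tab_x4788 : Tab x4788 Tx4788 :=
  Tab.of_tabW (tabW_prodW (.cons (tab_gen Gen.d).tabW (.cons tabi_x1332.tabW (.cons tabi_x1328.tabW (.cons tabi_x1332.tabW (.cons tabi_x1330.tabW (.cons (tab_gen Gen.d).tabW (.cons tab_x1330.tabW (.cons tab_x1332.tabW (.cons tab_x1328.tabW (.cons tab_x1332.tabW .nil))))))))))) (by decide +kernel)

noncomputable def x4819 : ↥Gh :=
  [(gen Gen.d), x1333, x1327, x1326, x1330 ^ 2, x1326, (gen Gen.d), x1326⁻¹, x1330⁻¹ ^ 2, x1326⁻¹, x1327⁻¹, x1333⁻¹].prod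
theorem tab_x4819 : Tab x4819 Tx4819 :=
  Tab.of_tabW (tabW_prodW (.cons (tab_gen Gen.d).tabW (.cons tab_x1333.tabW (.cons tab_x1327.tabW (.cons tab_x1326.tabW (.cons (tab_x1330.tabW.pow 2) (.cons tab_x1326.tabW (.cons (tab_gen Gen.d).tabW (.cons tabi_x1326.tabW (.cons (tabi_x1330.tabW.pow 2) (.cons tabi_x1326.tabW (.cons tabi_x1327.tabW (.cons tabi_x1333.tabW .nil))))))))))))) (by decide +kernel)

noncomputable def w7 : ↥Gh :=
  [x4819 ^ 3].prod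
theorem tab_w7 : Tab w7 Tw7 :=
  Tab.of_tabW (tabW_prodW (.cons (tab_x4819.tabW.pow 3) .nil)) (by decide +kernel)

noncomputable def r7 : ↥Gh :=
  [x4819 ^ 7].prod
theorem tab_r7 : Tab r7 Tr7 :=
  Tab.of_tabW (tabW_prodW (.cons (tab_x4819.tabW.pow 7) .nil)) (by decide +kernel)
theorem tabi_r7 : Tab r7⁻¹ Ir7 := tab_r7.inv (by decide +kernel)

noncomputable def x4922 : ↥Gh :=
  [x4782 ^ 11, x1331, x1332, x1328, x1329, x4782 ^ 11, x1331, x1332, x1328, x1329, x4782 ^ 11, x1331, x1332, x1328, x1329, x4788 ^ 6].prod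
theorem tab_x4922 : Tab x4922 Tx4922 :=
  Tab.of_tabW (tabW_prodW (.cons (tab_x4782.tabW.pow 11) (.cons tab_x1331.tabW (.cons tab_x1332.tabW (.cons tab_x1328.tabW (.cons tab_x1329.tabW (.cons (tab_x4782.tabW.pow 11) (.cons tab_x1331.tabW (.cons tab_x1332.tabW (.cons tab_x1328.tabW (.cons tab_x1329.tabW (.cons (tab_x4782.tabW.pow 11) (.cons tab_x1331.tabW (.cons tab_x1332.tabW (.cons tab_x1328.tabW (.cons tab_x1329.tabW (.cons (tab_x4788.tabW.pow 6) .nil))))))))))))))))) (by decide +kernel)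
theorem tabi_x4922 : Tab x4922⁻¹ Ix4922 := tab_x4922.inv (by decide +kernel)

noncomputable def x5142 : ↥Gh :=
  [x4922⁻¹, x159⁻¹, x42⁻¹, x4782 ^ 11, x1331, x1332, x1328, x1329, x4788 ^ 6, x42, x159, x4788 ^ 6, x4782 ^ 11, x1331, x1332, x1328, x1329, (gen Gen.d)].prod
theorem tab_x5142 : Tab x5142 Tx5142 :=
  Tab.of_tabW (tabW_prodW (.cons tabi_x4922.tabW (.cons tabi_x159.tabW (.cons tabi_x42.tabW (.cons (tab_x4782.tabW.pow 11) (.cons tab_x1331.tabW (.cons tab_x1332.tabW (.cons tab_x1328.tabW (.cons tab_x1329.tabW (.cons (tab_x4788.tabW.pow 6) (.cons tab_x42.tabW (.cons tab_x159.tabW (.cons (tab_x4788.tabW.pow 6) (.cons (tab_x4782.tabW.pow 11) (.cons tab_x1331.tabW (.cons tab_x1332.tabW (.cons tab_x1328.tabW (.cons tab_x1329.tabW (.cons (tab_gen Gen.d).tabW .nil))))))))))))))))))) (by decide +kernel)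

noncomputable def b7 : ↥Gh :=
  [x5142, r7, x5142, r7⁻¹, x5142, r7, x5142, r7⁻¹, x5142].prod
theorem tab_b7 : Tab b7 Tb7 :=
  Tab.of_tabW (tabW_prodW (.cons tab_x5142.tabW (.cons tab_r7.tabW (.cons tab_x5142.tabW (.cons tabi_r7.tabW (.cons tab_x5142.tabW (.cons tab_r7.tabW (.cons tab_x5142.tabW (.cons tabi_r7.tabW (.cons tab_x5142.tabW .nil)))))))))) (by decide +kernel)

noncomputable def a7 : ↥Gh :=
  [x5142, r7, x5142 ^ 3, r7⁻¹, x5142].prod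
theorem tab_a7 : Tab a7 Ta7 :=
  Tab.of_tabW (tabW_prodW (.cons tab_x5142.tabW (.cons tab_r7.tabW (.cons (tab_x5142.tabW.pow 3) (.cons tabi_r7.tabW (.cons tab_x5142.tabW .nil)))))) (by decide +kernel)

noncomputable def e17 : ↥Gh :=
  [x1328, x1326, x1329, x1332, x1327, x1326].prod
theorem tab_e17 : Tab e17 Te17 :=
  Tab.of_tabW (tabW_prodW (.cons tab_x1328.tabW (.cons tab_x1326.tabW (.cons tab_x1329.tabW (.cons tab_x1332.tabW (.cons tab_x1327.tabW (.cons tab_x1326.tabW .nil))))))) (by decide +kernel)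

end Cfsg.Agent.Lib.Helper8.HeTab
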